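import Cfsg.Agent.Lib.GoldSC.Seven.Balance

/-!
`|A| = 8` with seven blocks is impossible.

Blueprint: `blueprint/Goldschmidt.md`, D.
-/

set_option autoImplicit false
set_option linter.unusedSectionVars false
set_option linter.style.haveILetI false

namespace CfsgLib.GoldSC

open Cfsg Subgroup CfsgLib CfsgLib.Comp CfsgLib.AfterFT.CoreSep
open CfsgLib.S3Simple (Closed Irred imA mem_imA blockD conj_component)

universe u

variable {G : Type u} [Group G] [Finite G] {S : Sylow 2 G} {A : Subgroup G}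

namespace Seven

variable {z : G}

/-- A proper subgroup containing the cores, the normaliser of `A` and the parts of `C(z)` over the components. -/
theorem Ker.false_of_subgroup (K : Ker S A z) (H : Std S A) {M : Subgroup G} (hM : M ≠ ⊤)
    (hO : ∀ a ∈ A, a ≠ 1 → centralizerPPrimeCore 2 a ≤ M) (hN : Subgroup.normalizer (A : Set G) ≤ M)
    (hE : ∀ a ∈ A, a ≠ 1 → ∀ E : Subgroup (qq a), IsComponent E → blockD A a E = zpowers a →
      ∀ g ∈ cc z, ∀ hg : g ∈ cc a, ff a ⟨g, hg⟩ ∈ E → g ∈ M) : False := by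
  refine H.hyp.false_of_le H.closed hM fun a ha ha1 => H.hyp.cc_le H.closed ha ha1 (hO a ha ha1)
    (inf_le_left.trans hN) fun F hF => ?_
  by_cases hc : imA A a ≤ centralizer (F : Set (qq a))
  · exact CfsgLib.S3Simple.central_component_le H.closed ha hc (inf_le_left.trans hN)
  obtain ⟨E, hEc, hb⟩ := H.block a ha ha1
  obtain rfl := H.eq_of_moved ha ha1 hEc hb hF hc
  have hza := K.z_mem_cc H ha
  obtain ⟨Q, -, hQle, hQE, -⟩ := H.exists_perfect ha ha1 hF hb K.pt hza (K.ker a ha ha1 F hF hb hza)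
  intro q hq
  obtain ⟨⟨g, hg⟩, hgQ, rfl⟩ := hQE.ge hq
  exact ⟨⟨g, hg⟩, hE a ha ha1 F hF hb g (mem_inf.mp (hQle hgQ)).1 hg hq, rfl⟩

theorem Std.absurd (H : Std S A) : False := by
  classical
  haveI : Fact (Nat.Prime 2) := ⟨Nat.prime_two⟩
  have hA := H.closed
  obtain ⟨z, K⟩ := H.exists_ker
  by_cases hW : WW A = ⊥
  swap
  · have hWtop : WW A ≠ ⊤ := fun e => by
      have h1 := (K.WW_spec H).1
      rw [e, card_top] at h1
      have h2 : 2 ∣ Nat.card G := dvd_trans (by norm_num) (H.card ▸ card_subgroup_dvd_card A)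
      exact Seven.not_two_dvd_of_odd h1 h2
    refine K.false_of_subgroup H (M := Subgroup.normalizer (WW A : Set G)) (H.hyp.normalizer_ne_top hW hWtop)
      (fun a ha ha1 => (core_le_WW ha ha1).trans le_normalizer) normalizer_A_le_normalizer_WW
      fun a ha ha1 _ _ _ g hgz hga _ => K.normalizes_WW H ha ha1 (mem_inf.mpr ⟨hga, hgz⟩)
  have hO : ∀ a ∈ A, a ≠ 1 → centralizerPPrimeCore 2 a = ⊥ := fun a ha ha1 =>
    le_bot_iff.mp ((core_le_WW ha ha1).trans hW.le)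
  set J : Subgroup G := A ⊔ ⨆ i : Σ' (a : G) (_ : a ∈ A) (_ : a ≠ 1) (E : Subgroup (qq a)),
    IsComponent E ∧ blockD A a E = zpowers a, (i.2.2.2.1.comap (ff i.1)).map (cc i.1).subtype with hJ
  have hJz : J ≤ cc z := by
    refine sup_le (K.pt.A_le hA) (iSup_le ?_)
    rintro ⟨a, ha, ha1, E, hE, hb⟩ _ ⟨⟨g, hga⟩, hgE, rfl⟩
    have hza := K.z_mem_cc H ha
    obtain ⟨Q, -, hQle, hQE, -⟩ := H.exists_perfect ha ha1 hE hb K.pt hza (K.ker a ha ha1 E hE hb hza)
    obtain ⟨⟨q, hqa⟩, hqQ, hqe⟩ := hQE.ge (show ff a ⟨g, hga⟩ ∈ E from hgE)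
    have h1 : ff a (⟨q, hqa⟩⁻¹ * ⟨g, hga⟩) = 1 := by rw [map_mul, map_inv, hqe, inv_mul_cancel]
    have h2 := mem_core_of_bar h1
    rw [hO a ha ha1, mem_bot] at h2
    have h3 : q = g := inv_mul_eq_one.mp h2
    exact h3 ▸ (mem_inf.mp (hQle hqQ)).1
  have hJN : Subgroup.normalizer (A : Set G) ≤ Subgroup.normalizer (J : Set G) := by
    intro g hg
    refine mem_normalizer_of_maps fun x hx => ?_
    have hle : J ≤ J.comap (MulAut.conj g).toMonoidHom := by
      refine sup_le (fun x hx => mem_sup_left ((mem_normalizer_iff.mp hg x).mp hx)) (iSup_le ?_)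
      rintro ⟨a, ha, ha1, E, hE, hb⟩ _ ⟨⟨x, hxa⟩, hxE, rfl⟩
      obtain ⟨E', hE', hb', himg⟩ := conj_component hA hg ha hE
      have hgx : g * x * g⁻¹ ∈ cc (g * a * g⁻¹) := AfterFT.CoreSep.mem_cc.mpr (by
        calc g * x * g⁻¹ * (g * a * g⁻¹) = g * (x * a) * g⁻¹ := by group
          _ = g * (a * x) * g⁻¹ := by rw [AfterFT.CoreSep.mem_cc.mp hxa]
          _ = g * a * g⁻¹ * (g * x * g⁻¹) := by group)
      refine mem_sup_right (mem_iSup_of_mem
        (⟨g * a * g⁻¹, (mem_normalizer_iff.mp hg a).mp ha, fun e => ha1 (conj_eq_one_iff.mp e), E', hE', ?_⟩ :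
          Σ' (a : G) (_ : a ∈ A) (_ : a ≠ 1) (E : Subgroup (qq a)), IsComponent E ∧ blockD A a E = zpowers a)
        ⟨⟨g * x * g⁻¹, hgx⟩, himg x hxa hxE hgx, rfl⟩)
      rw [hb', hb, MonoidHom.map_zpowers]
      rfl
    exact hle hx
  have hJ1 : J ≠ ⊥ := fun e => hA.ne_bot (le_bot_iff.mp (e ▸ le_sup_left))
  have hJ2 : J ≠ ⊤ := fun e => H.hyp.cc_ne_top K.pt.ne (top_le_iff.mp (e ▸ hJz))
  refine K.false_of_subgroup H (M := Subgroup.normalizer (J : Set G)) (H.hyp.normalizer_ne_top hJ1 hJ2)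
    (fun a ha ha1 => by rw [hO a ha ha1]; exact bot_le) hJN fun a ha ha1 E hE hb g _ hga hgE => ?_
  exact le_normalizer (mem_sup_right (mem_iSup_of_mem
    (⟨a, ha, ha1, E, hE, hb⟩ :
      Σ' (a : G) (_ : a ∈ A) (_ : a ≠ 1) (E : Subgroup (qq a)), IsComponent E ∧ blockD A a E = zpowers a)
    ⟨⟨g, hga⟩, hgE, rfl⟩))

end Seven

/-- D: `|A| = 8` with all seven lines minimal blocks is impossible. -/
theorem Hyp.false_of_seven (h : Hyp G) (hA : Closed S A) (_hI : Irred A) (hc : Nat.card A = 8)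
    (hblk : ∀ a ∈ A, a ≠ 1 → MinBlk A (zpowers a)) : False :=
  (Seven.Std.absurd ⟨h, hA, hc, fun a ha ha1 => (hblk a ha ha1).exists_at h hA (mem_zpowers a) ha1⟩)

end CfsgLib.GoldSC
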