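import Cfsg.Agent.Lib.GoldSC.Seven.Key
import Cfsg.Agent.Lib.Signalizer.KFunctor
import Cfsg.Agent.Lib.Signalizer.Functor
import Cfsg.Agent.S0217

/-!
`|A| = 8`: the cores are balanced on `A`, and `C(t, z)` normalises the subgroup that they generate.

Blueprint: `blueprint/Goldschmidt.md`, D.
-/

set_option autoImplicit false
set_option linter.unusedSectionVars false
set_option linter.style.haveILetI false

namespace CfsgLib.GoldSC.Seven

open Cfsg Subgroup CfsgLib CfsgLib.Comp CfsgLib.AfterFT.CoreSep CfsgLib.Signalizer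
open CfsgLib.S3Simple (Closed imA mem_imA blockD mem_blockD oddSolv core_centralizes_component)
open scoped commutatorElement

universe u

variable {G : Type u} [Group G] [Finite G] {S : Sylow 2 G} {A : Subgroup G} {z : G}

/-- The subgroup generated by the cores at the elements of `A`. -/
def WW (A : Subgroup G) : Subgroup G := ⨆ a : {a : G // a ∈ A ∧ a ≠ 1}, centralizerPPrimeCore 2 (a : G)

/-- The part of `O(C(z))` centralising `A`. -/
def C0 (A : Subgroup G) (z : G) : Subgroup G := centralizerPPrimeCore 2 z ⊓ centralizer (A : Set G)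

theorem core_le_WW {a : G} (ha : a ∈ A) (ha1 : a ≠ 1) : centralizerPPrimeCore 2 a ≤ WW A :=
  le_iSup (fun a : {a : G // a ∈ A ∧ a ≠ 1} => centralizerPPrimeCore 2 (a : G)) ⟨a, ha, ha1⟩

theorem core_le (x : G) : centralizerPPrimeCore 2 x ≤ cc x := Subgroup.map_subtype_le _

theorem not_two_dvd_of_odd {n : ℕ} (h : Odd n) : ¬ 2 ∣ n := fun h2 =>
  Nat.not_odd_iff_even.mpr (even_iff_two_dvd.mpr h2) h

/-- Decomposition of an odd subgroup by an involution normalising it. -/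
theorem decomp_inv {R : Subgroup G} (hR : Odd (Nat.card R)) {x : G} (hx : x * x = 1)
    (hn : x ∈ Subgroup.normalizer (R : Set G)) {M : Subgroup G} (hM : ∀ r ∈ R, ⁅r, x⁆ ∈ M)
    (hC : ∀ c ∈ R, c * x = x * c → c ∈ M) : R ≤ M := by
  intro k hk
  have h2 : Nat.card (zpowers x) ∣ 2 := by
    rw [Nat.card_zpowers]
    exact orderOf_dvd_of_pow_eq_one (by rw [pow_two, hx])
  obtain ⟨p, hp, c, hc, rfl⟩ := coprime_decomp (zpowers_le.mpr hn)
    ((Nat.coprime_two_left.mpr hR).coprime_dvd_left h2) (Or.inr (oddSolv _ hR)) hk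
  refine mul_mem ?_ (hC c hc.1 (hc.2 x (mem_zpowers x)).symm)
  refine (commutator_le.mpr fun r hr y hy => ?_) hp
  obtain ⟨i, rfl⟩ := mem_zpowers_iff.mp hy
  have hx2 : x ^ (2 : ℤ) = 1 := by rw [zpow_two]; exact hx
  rcases Int.even_or_odd' i with ⟨m, rfl | rfl⟩
  · rw [zpow_mul, hx2, one_zpow, commutatorElement_one_right]
    exact one_mem _
  · rw [zpow_add, zpow_mul, hx2, one_zpow, one_mul, zpow_one]
    exact hM r hr

/-- The elements of a cyclic group of order two. -/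
theorem mem_zpowers_sq {x g : G} (hx : x * x = 1) (hg : g ∈ zpowers x) : g = 1 ∨ g = x := by
  obtain ⟨i, rfl⟩ := mem_zpowers_iff.mp hg
  have hx2 : x ^ (2 : ℤ) = 1 := by rw [zpow_two]; exact hx
  rcases Int.even_or_odd' i with ⟨m, rfl | rfl⟩
  · exact Or.inl (by rw [zpow_mul, hx2, one_zpow])
  · exact Or.inr (by rw [zpow_add, zpow_mul, hx2, one_zpow, one_mul, zpow_one])

/-- The elements of the four-group generated by two commuting involutions. -/
theorem mem_four {x y g : G} (hx : x * x = 1) (hy : y * y = 1) (hxy : x * y = y * x)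
    (hg : g ∈ zpowers x ⊔ zpowers y) : g = 1 ∨ g = x ∨ g = y ∨ g = x * y := by
  have hN : zpowers y ≤ Subgroup.normalizer (zpowers x : Set G) :=
    zpowers_le.mpr (centralizer_le_normalizer _ (by
      rw [CfsgLib.CharPLocal.centralizer_zpowers, mem_centralizer_singleton_iff]
      exact hxy.symm))
  rw [← SetLike.mem_coe, coe_mul_of_right_le_normalizer_left _ _ hN] at hg
  obtain ⟨a, ha, b, hb, rfl⟩ := hg
  rcases mem_zpowers_sq hx ha with rfl | rfl <;> rcases mem_zpowers_sq hy hb with rfl | rfl <;> simp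

theorem ea_of_two {x y : G} (hx : x * x = 1) (hy : y * y = 1) (hxy : x * y = y * x) :
    IsElementaryAbelian 2 (zpowers x ⊔ zpowers y : Subgroup G) := by
  have h2 : ∀ g ∈ zpowers x ⊔ zpowers y, g * g = 1 := fun g hg => by
    rcases mem_four hx hy hxy hg with rfl | rfl | rfl | rfl
    · exact one_mul 1
    · exact hx
    · exact hy
    · calc x * y * (x * y) = x * (y * x) * y := by group
        _ = x * x * (y * y) := by rw [← hxy]; group
        _ = 1 := by rw [hx, hy, one_mul]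
  refine CfsgLib.SolvSF.ea_of_comm (fun a ha b hb => ?_) fun a ha => by rw [pow_two]; exact h2 a ha
  calc a * b = (b * b) * (a * b) * (a * a) := by rw [h2 a ha, h2 b hb, one_mul, mul_one]
    _ = b * ((b * a) * (b * a)) * a := by group
    _ = b * a := by rw [h2 _ (mul_mem hb ha), mul_one]

theorem four_le_card {x y : G} (hx : x * x = 1) (hy : y * y = 1) (hx1 : x ≠ 1)
    (hy1 : y ≠ 1) (hne : x ≠ y) : 4 ≤ Nat.card ↥(zpowers x ⊔ zpowers y) := by
  have hd : zpowers x ⊓ zpowers y = ⊥ := (eq_bot_iff_forall _).mpr fun g hg => by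
    rcases mem_zpowers_sq hx hg.1 with rfl | rfl
    · rfl
    rcases mem_zpowers_sq hy hg.2 with h | h
    · exact absurd h hx1
    · exact absurd h hne
  have h1 := CfsgLib.S3Simple.card_mul_le_of_disjoint (M := zpowers x ⊔ zpowers y) le_sup_left le_sup_right hd
  have hc : ∀ {g : G}, g * g = 1 → g ≠ 1 → Nat.card (zpowers g) = 2 := fun hg hg1 => by
    rw [Nat.card_zpowers]
    exact orderOf_eq_prime (by rw [pow_two, hg]) hg1
  rw [hc hx hx1, hc hy hy1] at h1
  exact h1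

/-- An element of a core in `C(c)` normalises the components there. -/
theorem core_normalizes_comp {b c w : G} (hbc : b ∈ cc c) (hb : b * b = 1) (hw : w ∈ centralizerPPrimeCore 2 b)
    (hwc : w ∈ cc c) {F : Subgroup (qq c)} (hF : IsComponent F) :
    ff c ⟨w, hwc⟩ ∈ Subgroup.normalizer (F : Set (qq c)) :=
  coreC_normalizes (pPrimeCore_quotient_eq_bot 2) (zpowers_two (by
    rw [← map_mul, show (⟨b, hbc⟩ : ↥(cc c)) * ⟨b, hbc⟩ = 1 from Subtype.ext hb, map_one])) hF
    (image_core hbc hb ⟨w, hwc⟩ hw)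

theorem Ker.z_mem_cc (K : Ker S A z) (H : Std S A) {a : G} (ha : a ∈ A) : z ∈ cc a :=
  AfterFT.CoreSep.mem_cc.mpr (AfterFT.CoreSep.mem_cc.mp (K.pt.A_le H.closed ha)).symm

/-- `O_a ∩ C(z) ≤ O_z`. -/
theorem Ker.core_le_z (K : Ker S A z) (H : Std S A) {a : G} (ha : a ∈ A) {w : G}
    (hw : w ∈ centralizerPPrimeCore 2 a) (hwz : w ∈ cc z) : w ∈ centralizerPPrimeCore 2 z :=
  K.pt.mem_core_self H.hyp H.closed ha hw hwz fun _ hD hbig hne => absurd (K.big_central H hD hbig ha) hne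

/-- The cores are balanced. -/
theorem Ker.balance (K : Ker S A z) (H : Std S A) {a b : G} (ha : a ∈ A) (hb : b ∈ A) (hb1 : b ≠ 1) :
    centralizerPPrimeCore 2 a ⊓ cc b ≤ centralizerPPrimeCore 2 b := by
  classical
  haveI : Fact (Nat.Prime 2) := ⟨Nat.prime_two⟩
  have hA := H.closed
  intro w hw
  have hab : a ∈ cc b := hA.mem_cc hb ha
  refine mem_core_of_centralizes hab (hA.sq ha) (mem_inf.mp hw).1 (mem_inf.mp hw).2 fun F hF => ?_
  by_cases hc : ff b ⟨a, hab⟩ ∈ centralizer (F : Set (qq b))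
  · exact core_centralizes_component hab (hA.sq ha) (mem_inf.mp hw).1 (mem_inf.mp hw).2 hF hc
  obtain ⟨E, hE, hEb⟩ := H.block b hb hb1
  obtain rfl := H.eq_of_moved hb hb1 hE hEb hF fun hle => hc (hle (mem_imA ha _))
  have hzb := K.z_mem_cc H hb
  have hzF := K.ker b hb hb1 F hF hEb hzb
  set R := centralizerPPrimeCore 2 a ⊓ cc b with hR
  have hn : z ∈ Subgroup.normalizer (R : Set G) := mem_normalizer_of_maps fun x hx =>
    mem_inf.mpr ⟨(mem_normalizer_iff.mp (cc_le_normalizer_core a (K.z_mem_cc H ha)) x).mp (mem_inf.mp hx).1,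
      (cc b).mul_mem ((cc b).mul_mem hzb (mem_inf.mp hx).2) ((cc b).inv_mem hzb)⟩
  have hle : R ≤ ((centralizer (F : Set (qq b))).comap (ff b)).map (cc b).subtype := by
    refine decomp_inv (odd_of_le inf_le_left (odd_card_core a)) K.pt.sq hn (fun r hr => ?_) (fun c hc hcz => ?_)
    · have hrb := (mem_inf.mp hr).2
      refine ⟨⁅(⟨r, hrb⟩ : ↥(cc b)), ⟨z, hzb⟩⁆, ?_, map_commutatorElement _ _ _⟩
      rw [SetLike.mem_coe, mem_comap, map_commutatorElement]
      exact comm_mem_centralizer (core_normalizes_comp hab (hA.sq ha) (mem_inf.mp hr).1 hrb hF) hzF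
    · have hcb := (mem_inf.mp hc).2
      refine ⟨⟨c, hcb⟩, ?_, rfl⟩
      exact core_centralizes_component hzb K.pt.sq
        (K.core_le_z H ha (mem_inf.mp hc).1 (AfterFT.CoreSep.mem_cc.mpr hcz)) hcb hF hzF
  obtain ⟨y, hy, hye⟩ := hle hw
  have : y = ⟨w, (mem_inf.mp hw).2⟩ := Subtype.ext hye
  exact this ▸ hy

theorem Ker.WW_spec (K : Ker S A z) (H : Std S A) :
    Odd (Nat.card (WW A)) ∧ ∀ a ∈ A, a ≠ 1 → WW A ⊓ cc a = centralizerPPrimeCore 2 a := by
  haveI : Fact (Nat.Prime 2) := ⟨Nat.prime_two⟩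
  have h := Cfsg.Agent.S0217.result (p := 2) A (fun a ha b hb => H.closed.comm ha hb)
    (fun a ha => H.closed.elem.2 a ha) (by rw [H.card]; norm_num) (fun a => centralizerPPrimeCore 2 a)
    (fun a _ _ => core_le a) (fun a _ _ => not_two_dvd_of_odd (odd_card_core a))
    (fun a ha _ b hb x hx => (mem_normalizer_iff.mp (KFunctor.core_normalizes H.closed.elem ha hb) x).mp hx)
    (fun a _ _ => oddSolv _ (odd_card_core a)) (fun a ha _ b hb hb1 => K.balance H ha hb hb1)
  exact ⟨Nat.odd_iff.mpr (Nat.two_dvd_ne_zero.mp h.1), h.2⟩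

theorem A_le_normalizer_WW (H : Std S A) : A ≤ Subgroup.normalizer (WW A : Set G) := fun g hg =>
  mem_normalizer_of_maps fun x hx => by
    have hle : WW A ≤ (WW A).comap (MulAut.conj g).toMonoidHom := iSup_le fun b w hw => core_le_WW b.2.1 b.2.2
      ((mem_normalizer_iff.mp (KFunctor.core_normalizes H.closed.elem b.2.1 hg) w).mp hw)
    exact hle hx

theorem normalizer_A_le_normalizer_WW :
    Subgroup.normalizer (A : Set G) ≤ Subgroup.normalizer (WW A : Set G) := fun g hg =>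
  mem_normalizer_of_maps fun x hx => by
    have hle : WW A ≤ (WW A).comap (MulAut.conj g).toMonoidHom := iSup_le fun b w hw =>
      core_le_WW ((mem_normalizer_iff.mp hg _).mp b.2.1) (fun e => b.2.2 (conj_eq_one_iff.mp e))
        (CfsgLib.SolvSF.conj_mem_centralizerPPrimeCore g b hw)
    exact hle hx

/-- `[O_z ∩ C(a), A] ≤ O_a`. -/
theorem Ker.comm_le (K : Ker S A z) (H : Std S A) {a c r : G} (ha : a ∈ A) (ha1 : a ≠ 1) (hc : c ∈ A)
    (hr : r ∈ centralizerPPrimeCore 2 z) (hra : r ∈ cc a) : ⁅r, c⁆ ∈ centralizerPPrimeCore 2 a := by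
  classical
  have hA := H.closed
  have hca : c ∈ cc a := hA.mem_cc ha hc
  have hza := K.z_mem_cc H ha
  have hw : ⁅r, c⁆ ∈ centralizerPPrimeCore 2 z := by
    rw [commutatorElement_def, show r * c * r⁻¹ * c⁻¹ = r * (c * r⁻¹ * c⁻¹) by group]
    exact mul_mem hr ((mem_normalizer_iff.mp (cc_le_normalizer_core z (K.pt.A_le hA hc)) _).mp (inv_mem hr))
  have hwa : ⁅r, c⁆ ∈ cc a := by
    rw [commutatorElement_def]
    exact (cc a).mul_mem ((cc a).mul_mem ((cc a).mul_mem hra hca) ((cc a).inv_mem hra)) ((cc a).inv_mem hca)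
  refine mem_core_of_centralizes hza K.pt.sq hw hwa fun F hF => ?_
  have hN := core_normalizes_comp hza K.pt.sq hr hra hF
  rw [show (⟨⁅r, c⁆, hwa⟩ : ↥(cc a)) = ⁅(⟨r, hra⟩ : ↥(cc a)), ⟨c, hca⟩⁆ from
    Subtype.ext (map_commutatorElement (cc a).subtype ⟨r, hra⟩ ⟨c, hca⟩).symm, map_commutatorElement]
  by_cases hcF : ff a ⟨c, hca⟩ ∈ centralizer (F : Set (qq a))
  · exact comm_mem_centralizer hN hcF
  obtain ⟨E, hE, hEb⟩ := H.block a ha ha1
  obtain rfl := H.eq_of_moved ha ha1 hE hEb hF fun hle => hcF (hle (mem_imA hc _))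
  have hrF := core_centralizes_component hza K.pt.sq hr hra hF (K.ker a ha ha1 F hF hEb hza)
  have hcN := (H.hyp.ctx ha1).closed_normalizes ((H.pt ha ha1).closed hA) hF (mem_imA hc hca)
  rw [commutatorElement_def, show ∀ p q : qq a, p * q * p⁻¹ * q⁻¹ = p * (q * p⁻¹ * q⁻¹) by intros; group]
  exact mul_mem hrF (conj_mem_centralizer hcN (inv_mem hrF))

theorem exists_ne_one_of_hyperplane (H : Std S A) {B : Subgroup G} (_hB : B ≤ A) (hBi : B.relIndex A ≤ 2) :
    ∃ a ∈ B, a ≠ 1 := by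
  refine B.bot_or_exists_ne_one.resolve_left fun e => ?_
  rw [e, relIndex_bot_left, H.card] at hBi
  omega

/-- `O_z ≤ W C₀`. -/
theorem Ker.core_z_le (K : Ker S A z) (H : Std S A) : centralizerPPrimeCore 2 z ≤ WW A ⊔ C0 A z := by
  haveI : Fact (Nat.Prime 2) := ⟨Nat.prime_two⟩
  have hA := H.closed
  rw [gen_index hA.elem (not_two_dvd_of_odd (odd_card_core z))
    ((K.pt.A_le hA).trans (cc_le_normalizer_core z))]
  refine iSup_le fun ⟨B, hB, hBi⟩ x hx => ?_
  obtain ⟨a, haB, ha1⟩ := exists_ne_one_of_hyperplane H hB hBi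
  have ha := hB haB
  set R := centralizerPPrimeCore 2 z ⊓ cc a with hR
  have hAR : A ≤ Subgroup.normalizer (R : Set G) := fun g hg => mem_normalizer_of_maps fun r hr =>
    mem_inf.mpr ⟨(mem_normalizer_iff.mp (cc_le_normalizer_core z (K.pt.A_le hA hg)) r).mp (mem_inf.mp hr).1,
      (cc a).mul_mem ((cc a).mul_mem (hA.mem_cc ha hg) (mem_inf.mp hr).2) ((cc a).inv_mem (hA.mem_cc ha hg))⟩
  have hcop : (Nat.card A).Coprime (Nat.card R) := by
    rw [H.card, show (8 : ℕ) = 2 ^ 3 by norm_num]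
    exact Nat.Coprime.pow_left 3 (Nat.coprime_two_left.mpr (odd_of_le inf_le_left (odd_card_core z)))
  obtain ⟨p, hp, c, hc, rfl⟩ := coprime_decomp hAR hcop
    (Or.inr (oddSolv _ (odd_of_le inf_le_left (odd_card_core z))))
    (show x ∈ R from mem_inf.mpr ⟨(mem_inf.mp hx).1,
      AfterFT.CoreSep.mem_cc.mpr ((mem_inf.mp hx).2 a haB).symm⟩)
  refine mul_mem_sup (core_le_WW ha ha1 ?_) (mem_inf.mpr ⟨(mem_inf.mp hc.1).1, hc.2⟩)
  exact (commutator_le.mpr fun r hr g hg => K.comm_le H ha ha1 hg (mem_inf.mp hr).1 (mem_inf.mp hr).2) hp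

theorem Ker.t_mem_cc (K : Ker S A z) (H : Std S A) {t : G} (ht : t ∈ A) : t ∈ cc (t * z) :=
  (K.pt_mul H ht).A_le H.closed ht

theorem Ker.z_mem_cc_mul (K : Ker S A z) (H : Std S A) {t : G} (ht : t ∈ A) : z ∈ cc (t * z) := by
  have htz : t * z = z * t := AfterFT.CoreSep.mem_cc.mp (K.pt.A_le H.closed ht)
  refine AfterFT.CoreSep.mem_cc.mpr ?_
  rw [← mul_assoc, ← htz]

theorem Ker.z_centralizes_big (K : Ker S A z) (H : Std S A) {t : G} (ht : t ∈ A) (ht1 : t ≠ 1)
    {D : Subgroup (qq (t * z))} (hD : IsComponent D) (hbig : Big (↥D ⧸ center ↥D)) :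
    ff (t * z) ⟨z, K.z_mem_cc_mul H ht⟩ ∈ centralizer (D : Set (qq (t * z))) := by
  have htd := K.big_shift H ht ht1 hD hbig
  have hyy : t * z ∈ cc (t * z) := AfterFT.CoreSep.mem_cc.mpr rfl
  rw [show (⟨z, K.z_mem_cc_mul H ht⟩ : ↥(cc (t * z))) = ⟨t, K.t_mem_cc H ht⟩⁻¹ * ⟨t * z, hyy⟩ from
    Subtype.ext (inv_mul_cancel_left t z).symm, map_mul, map_inv]
  refine mul_mem (inv_mem htd) fun d _ => ?_
  obtain ⟨d', rfl⟩ := bar_surjective 2 d
  rw [← map_mul, ← map_mul]
  exact congrArg _ (Subtype.ext (AfterFT.CoreSep.mem_cc.mp d'.2))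

/-- `O_a ∩ C(t z) ≤ O_{tz}`. -/
theorem Ker.core_le_tz (K : Ker S A z) (H : Std S A) {a t : G} (ha : a ∈ A) (ht : t ∈ A) (ht1 : t ≠ 1) {w : G}
    (hw : w ∈ centralizerPPrimeCore 2 a) (hwy : w ∈ cc (t * z)) : w ∈ centralizerPPrimeCore 2 (t * z) := by
  have hA := H.closed
  set P := K.pt_mul H ht
  refine P.mem_core_self H.hyp hA ha hw hwy fun D hD hbig _ => ?_
  have hty := K.t_mem_cc H ht
  have htD := K.big_shift H ht ht1 hD hbig
  have hay : a ∈ cc (t * z) := P.A_le hA ha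
  set R := centralizerPPrimeCore 2 a ⊓ cc (t * z) with hR
  have hn : t ∈ Subgroup.normalizer (R : Set G) := mem_normalizer_of_maps fun x hx =>
    mem_inf.mpr ⟨(mem_normalizer_iff.mp (cc_le_normalizer_core a (hA.mem_cc ha ht)) x).mp (mem_inf.mp hx).1,
      (cc (t * z)).mul_mem ((cc (t * z)).mul_mem hty (mem_inf.mp hx).2) ((cc (t * z)).inv_mem hty)⟩
  have hle : R ≤ ((centralizer (D : Set (qq (t * z)))).comap (ff (t * z))).map (cc (t * z)).subtype := by
    refine decomp_inv (odd_of_le inf_le_left (odd_card_core a)) (hA.sq ht) hn (fun r hr => ?_) (fun c hc hct => ?_)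
    · have hry := (mem_inf.mp hr).2
      refine ⟨⁅(⟨r, hry⟩ : ↥(cc (t * z))), ⟨t, hty⟩⁆, ?_, map_commutatorElement _ _ _⟩
      rw [SetLike.mem_coe, mem_comap, map_commutatorElement]
      exact comm_mem_centralizer (core_normalizes_comp hay (hA.sq ha) (mem_inf.mp hr).1 hry hD) htD
    · have hcy := (mem_inf.mp hc).2
      refine ⟨⟨c, hcy⟩, ?_, rfl⟩
      have hcz : c ∈ cc z := by
        refine AfterFT.CoreSep.mem_cc.mpr ?_
        have h1 := AfterFT.CoreSep.mem_cc.mp hcy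
        rw [← mul_assoc, hct, mul_assoc, mul_assoc] at h1
        exact mul_left_cancel h1
      exact core_centralizes_component (K.z_mem_cc_mul H ht) K.pt.sq (K.core_le_z H ha (mem_inf.mp hc).1 hcz)
        hcy hD (K.z_centralizes_big H ht ht1 hD hbig)
  obtain ⟨y, hy, hye⟩ := hle (show w ∈ R from mem_inf.mpr ⟨hw, hwy⟩)
  have : y = ⟨w, hwy⟩ := Subtype.ext hye
  exact this ▸ hy

/-- `C₀ ≤ O_{tz}`. -/
theorem Ker.C0_le_tz (K : Ker S A z) (H : Std S A) {t : G} (ht : t ∈ A) (ht1 : t ≠ 1) :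
    C0 A z ≤ centralizerPPrimeCore 2 (t * z) := by
  intro c hc
  obtain ⟨hcz, hcA⟩ := mem_inf.mp hc
  have hcy : c ∈ cc (t * z) := by
    refine AfterFT.CoreSep.mem_cc.mpr ?_
    rw [← mul_assoc, ← hcA t ht, mul_assoc, AfterFT.CoreSep.mem_cc.mp (core_le z hcz), mul_assoc]
  refine (K.pt_mul H ht).mem_core_shift H.hyp H.closed ht ?_ hcy fun D hD hbig hne =>
    absurd (K.big_shift H ht ht1 hD hbig) hne
  rw [← mul_assoc, H.closed.sq ht, one_mul]
  exact hcz

/-- `O_{tz} ≤ W C₀`. -/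
theorem Ker.core_tz_le (K : Ker S A z) (H : Std S A) {t : G} (ht : t ∈ A) (_ht1 : t ≠ 1) :
    centralizerPPrimeCore 2 (t * z) ≤ WW A ⊔ C0 A z := by
  classical
  haveI : Fact (Nat.Prime 2) := ⟨Nat.prime_two⟩
  have hA := H.closed
  set P := K.pt_mul H ht
  rw [gen_index hA.elem (not_two_dvd_of_odd (odd_card_core (t * z)))
    ((P.A_le hA).trans (cc_le_normalizer_core (t * z)))]
  refine iSup_le fun ⟨B, hB, hBi⟩ x hx => ?_
  obtain ⟨a, haB, ha1⟩ := exists_ne_one_of_hyperplane H hB hBi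
  have ha := hB haB
  have hza := K.z_mem_cc H ha
  have hta : t ∈ cc a := hA.mem_cc ha ht
  have hya : t * z ∈ cc a := (cc a).mul_mem hta hza
  set R := centralizerPPrimeCore 2 (t * z) ⊓ cc a with hR
  have hn : z ∈ Subgroup.normalizer (R : Set G) := mem_normalizer_of_maps fun r hr =>
    mem_inf.mpr ⟨(mem_normalizer_iff.mp (cc_le_normalizer_core (t * z) (K.z_mem_cc_mul H ht)) r).mp
      (mem_inf.mp hr).1, (cc a).mul_mem ((cc a).mul_mem hza (mem_inf.mp hr).2) ((cc a).inv_mem hza)⟩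
  refine decomp_inv (odd_of_le inf_le_left (odd_card_core (t * z))) K.pt.sq hn (fun r hr => ?_) (fun c hc hcz => ?_)
    (show x ∈ R from mem_inf.mpr ⟨(mem_inf.mp hx).1, AfterFT.CoreSep.mem_cc.mpr ((mem_inf.mp hx).2 a haB).symm⟩)
  · obtain ⟨hr1, hra⟩ := mem_inf.mp hr
    refine mem_sup_left (core_le_WW ha ha1 ?_)
    have hw : ⁅r, z⁆ ∈ centralizerPPrimeCore 2 (t * z) := by
      rw [commutatorElement_def, show r * z * r⁻¹ * z⁻¹ = r * (z * r⁻¹ * z⁻¹) by group]
      exact mul_mem hr1 ((mem_normalizer_iff.mp (cc_le_normalizer_core (t * z) (K.z_mem_cc_mul H ht)) _).mp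
        (inv_mem hr1))
    have hwa : ⁅r, z⁆ ∈ cc a := by
      rw [commutatorElement_def]
      exact (cc a).mul_mem ((cc a).mul_mem ((cc a).mul_mem hra hza) ((cc a).inv_mem hra)) ((cc a).inv_mem hza)
    refine mem_core_of_centralizes hya P.sq hw hwa fun F hF => ?_
    have hN := core_normalizes_comp hya P.sq hr1 hra hF
    by_cases hm : imA A a ≤ centralizer (F : Set (qq a))
    · have he : ⁅r, z⁆ = ⁅r, t⁆ := by
        have hry : r * (t * z) = t * z * r := AfterFT.CoreSep.mem_cc.mp (core_le (t * z) hr1)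
        have htz : t * z = z * t := AfterFT.CoreSep.mem_cc.mp (K.pt.A_le hA ht)
        have hz0 : z⁻¹ = z := inv_eq_of_mul_eq_one_left K.pt.sq
        have ht0 : t⁻¹ = t := inv_eq_of_mul_eq_one_left (hA.sq ht)
        have hry' : r⁻¹ * (t * z) = t * z * r⁻¹ :=
          ((show Commute r (t * z) from hry).inv_left).eq
        rw [commutatorElement_def, commutatorElement_def, hz0, ht0]
        calc r * z * r⁻¹ * z = r * (t * (t * z)) * r⁻¹ * z := by rw [← mul_assoc t, hA.sq ht, one_mul]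
          _ = r * t * ((t * z) * r⁻¹) * z := by group
          _ = r * t * (r⁻¹ * (t * z)) * z := by rw [hry']
          _ = r * t * r⁻¹ * t * (z * z) := by group
          _ = r * t * r⁻¹ * t := by rw [K.pt.sq, mul_one]
      have hta' : ⁅r, t⁆ ∈ cc a := he ▸ hwa
      rw [show (⟨⁅r, z⁆, hwa⟩ : ↥(cc a)) = ⁅(⟨r, hra⟩ : ↥(cc a)), ⟨t, hta⟩⁆ from
        Subtype.ext (he.trans (map_commutatorElement (cc a).subtype ⟨r, hra⟩ ⟨t, hta⟩).symm), map_commutatorElement]
      exact comm_mem_centralizer hN (hm (mem_imA ht hta))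
    obtain ⟨E, hE, hEb⟩ := H.block a ha ha1
    obtain rfl := H.eq_of_moved ha ha1 hE hEb hF hm
    rw [show (⟨⁅r, z⁆, hwa⟩ : ↥(cc a)) = ⁅(⟨r, hra⟩ : ↥(cc a)), ⟨z, hza⟩⁆ from
      Subtype.ext (map_commutatorElement (cc a).subtype ⟨r, hra⟩ ⟨z, hza⟩).symm, map_commutatorElement]
    exact comm_mem_centralizer hN (K.ker a ha ha1 F hF hEb hza)
  · obtain ⟨hc1, -⟩ := mem_inf.mp hc
    refine K.core_z_le H ?_
    exact K.pt.mem_core_shift H.hyp hA ht hc1 (AfterFT.CoreSep.mem_cc.mpr hcz) fun D hD hbig hne =>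
      absurd (K.big_central H hD hbig ht) hne

theorem C0_le_normalizer : C0 A z ≤ Subgroup.normalizer (WW A : Set G) := fun _ hc =>
  normalizer_A_le_normalizer_WW (centralizer_le_normalizer _ (mem_inf.mp hc).2)

theorem split_WW {w : G} (hw : w ∈ WW A ⊔ C0 A z) :
    ∃ p ∈ WW A, ∃ c ∈ C0 A z, w = p * c := by
  rw [← SetLike.mem_coe, coe_mul_of_right_le_normalizer_left _ _ C0_le_normalizer] at hw
  obtain ⟨p, hp, c, hc, rfl⟩ := hw
  exact ⟨p, hp, c, hc, rfl⟩

/-- What commutes with an involution `x` centralising `A` and lies in `W` lies in `O(C(x))`, as soon as the cores do. -/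
theorem Ker.WW_inf_le (K : Ker S A z) (H : Std S A) {x : G} (hAx : A ≤ cc x)
    (hx : ∀ a ∈ A, a ≠ 1 → centralizerPPrimeCore 2 a ⊓ cc x ≤ centralizerPPrimeCore 2 x) :
    WW A ⊓ cc x ≤ centralizerPPrimeCore 2 x := by
  haveI : Fact (Nat.Prime 2) := ⟨Nat.prime_two⟩
  have hn : A ≤ Subgroup.normalizer ((WW A ⊓ cc x : Subgroup G) : Set G) := fun g hg =>
    mem_normalizer_of_maps fun w hw => mem_inf.mpr ⟨(mem_normalizer_iff.mp (A_le_normalizer_WW H hg) w).mp
      (mem_inf.mp hw).1, (cc x).mul_mem ((cc x).mul_mem (hAx hg) (mem_inf.mp hw).2) ((cc x).inv_mem (hAx hg))⟩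
  rw [gen_index H.closed.elem (not_two_dvd_of_odd (odd_of_le inf_le_left (K.WW_spec H).1)) hn]
  refine iSup_le fun ⟨B, hB, hBi⟩ w hw => ?_
  obtain ⟨a, haB, ha1⟩ := exists_ne_one_of_hyperplane H hB hBi
  obtain ⟨hw1, hwB⟩ := mem_inf.mp hw
  refine hx a (hB haB) ha1 (mem_inf.mpr ⟨?_, (mem_inf.mp hw1).2⟩)
  rw [← (K.WW_spec H).2 a (hB haB) ha1]
  exact mem_inf.mpr ⟨(mem_inf.mp hw1).1, AfterFT.CoreSep.mem_cc.mpr (hwB a haB).symm⟩

/-- `C(t, z)` normalises `W`. -/
theorem Ker.normalizes_WW (K : Ker S A z) (H : Std S A) {t : G} (ht : t ∈ A) (ht1 : t ≠ 1) :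
    cc t ⊓ cc z ≤ Subgroup.normalizer (WW A : Set G) := by
  classical
  haveI : Fact (Nat.Prime 2) := ⟨Nat.prime_two⟩
  have hA := H.closed
  set Wp := WW A ⊔ C0 A z with hWp
  set T := centralizerPPrimeCore 2 t ⊔ centralizerPPrimeCore 2 z ⊔ centralizerPPrimeCore 2 (t * z) with hT
  have hWodd := (K.WW_spec H).1
  have hC0odd : Odd (Nat.card (C0 A z)) := odd_of_le inf_le_left (odd_card_core z)
  have hodd : Odd (Nat.card Wp) := (hC0odd.mul hWodd).of_dvd_nat (card_sup_dvd C0_le_normalizer)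
  have htz : t * z = z * t := AfterFT.CoreSep.mem_cc.mp (K.pt.A_le hA ht)
  -- the two subgroups are equal
  have hTW : T ≤ Wp := sup_le (sup_le ((core_le_WW ht ht1).trans le_sup_left) (K.core_z_le H)) (K.core_tz_le H ht ht1)
  set V := zpowers t ⊔ zpowers z with hV
  have hVn : V ≤ Subgroup.normalizer (Wp : Set G) := by
    have hfix : ∀ g, (∀ a ∈ A, g * a = a * g) → g ∈ cc z → g ∈ Subgroup.normalizer (Wp : Set G) := by
      intro g hg hgz
      refine mem_normalizer_of_maps fun w hw => ?_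
      obtain ⟨p, hp, c, hc, rfl⟩ := split_WW hw
      have hgA : g ∈ centralizer (A : Set G) := fun a ha => (hg a ha).symm
      rw [show g * (p * c) * g⁻¹ = (g * p * g⁻¹) * (g * c * g⁻¹) by group]
      refine mul_mem_sup
        ((mem_normalizer_iff.mp (normalizer_A_le_normalizer_WW (centralizer_le_normalizer _ hgA)) p).mp hp)
        (mem_inf.mpr ⟨(mem_normalizer_iff.mp (cc_le_normalizer_core z hgz) c).mp (mem_inf.mp hc).1, ?_⟩)
      exact mul_mem (mul_mem hgA (mem_inf.mp hc).2) (inv_mem hgA)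
    refine sup_le (zpowers_le.mpr (hfix t (fun a ha => hA.comm ht ha) (K.pt.A_le hA ht)))
      (zpowers_le.mpr (hfix z (fun a ha => (AfterFT.CoreSep.mem_cc.mp (K.pt.A_le hA ha)).symm)
        (AfterFT.CoreSep.mem_cc.mpr rfl)))
  have hVelem : IsElementaryAbelian 2 V := ea_of_two (hA.sq ht) K.pt.sq htz
  have hWT : Wp ≤ T := by
    rw [gen_index hVelem (not_two_dvd_of_odd hodd) hVn]
    refine iSup_le fun ⟨B, hB, hBi⟩ w hw => ?_
    obtain ⟨hwW, hwB⟩ := mem_inf.mp hw
    obtain ⟨p, hp, c, hc, rfl⟩ := split_WW hwW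
    obtain ⟨hcz, hcA⟩ := mem_inf.mp hc
    obtain ⟨e, heB, he1⟩ := B.bot_or_exists_ne_one.resolve_left fun e => by
      have h4 : 4 ≤ Nat.card V := four_le_card (hA.sq ht) K.pt.sq ht1 K.pt.ne
        (fun e => K.not_mem H (e ▸ ht))
      rw [e, relIndex_bot_left] at hBi
      omega
    have hec : e * c = c * e → p * e = e * p := fun h1 => by
      have h2 := hwB e heB
      refine mul_right_cancel (b := c) ?_
      calc p * e * c = p * c * e := by rw [mul_assoc, h1, mul_assoc]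
        _ = e * (p * c) := h2.symm
        _ = e * p * c := (mul_assoc _ _ _).symm
    rcases mem_four (hA.sq ht) K.pt.sq htz (hB heB) with rfl | rfl | rfl | rfl
    · exact absurd rfl he1
    · have hpt : p ∈ cc e := AfterFT.CoreSep.mem_cc.mpr (hec (hcA e ht))
      exact mul_mem (mem_sup_left (mem_sup_left ((K.WW_spec H).2 e ht ht1 ▸ mem_inf.mpr ⟨hp, hpt⟩)))
        (mem_sup_left (mem_sup_right hcz))
    · have hpz : p ∈ cc e := AfterFT.CoreSep.mem_cc.mpr (hec (AfterFT.CoreSep.mem_cc.mp (core_le e hcz)).symm)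
      refine mul_mem (mem_sup_left (mem_sup_right ?_)) (mem_sup_left (mem_sup_right hcz))
      exact K.WW_inf_le H (K.pt.A_le hA)
        (fun a ha _ w hw => K.core_le_z H ha (mem_inf.mp hw).1 (mem_inf.mp hw).2) (mem_inf.mpr ⟨hp, hpz⟩)
    · have hcy := K.C0_le_tz H ht ht1 hc
      have hpy : p ∈ cc (t * z) :=
        AfterFT.CoreSep.mem_cc.mpr (hec (AfterFT.CoreSep.mem_cc.mp (core_le (t * z) hcy)).symm)
      refine mul_mem (mem_sup_right ?_) (mem_sup_right hcy)
      exact K.WW_inf_le H ((K.pt_mul H ht).A_le hA)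
        (fun a ha _ w hw => K.core_le_tz H ha ht ht1 (mem_inf.mp hw).1 (mem_inf.mp hw).2) (mem_inf.mpr ⟨hp, hpy⟩)
  have hWpT : Wp = T := le_antisymm hWT hTW
  intro g hg
  obtain ⟨hgt, hgz⟩ := mem_inf.mp hg
  have hgy : g ∈ cc (t * z) := by
    refine AfterFT.CoreSep.mem_cc.mpr ?_
    rw [← mul_assoc, AfterFT.CoreSep.mem_cc.mp hgt, mul_assoc, AfterFT.CoreSep.mem_cc.mp hgz, mul_assoc]
  have hgW : ∀ w ∈ Wp, g * w * g⁻¹ ∈ Wp := fun w hw => by
    have hle : T ≤ T.comap (MulAut.conj g).toMonoidHom := by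
      refine sup_le (sup_le ?_ ?_) ?_
      · exact fun x hx => mem_sup_left (mem_sup_left
          ((mem_normalizer_iff.mp (cc_le_normalizer_core t hgt) x).mp hx))
      · exact fun x hx => mem_sup_left (mem_sup_right
          ((mem_normalizer_iff.mp (cc_le_normalizer_core z hgz) x).mp hx))
      · exact fun x hx => mem_sup_right ((mem_normalizer_iff.mp (cc_le_normalizer_core (t * z) hgy) x).mp hx)
    rw [hWpT] at hw ⊢
    exact hle hw
  have hcomm : ⁅Wp, zpowers t⁆ ≤ WW A := by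
    rw [commutator_le]
    intro w hw x hx
    obtain ⟨p, hp, c, hc, rfl⟩ := split_WW hw
    obtain ⟨i, rfl⟩ := mem_zpowers_iff.mp hx
    have hct : c * t ^ i = t ^ i * c := ((show Commute c t from ((mem_inf.mp hc).2 t ht).symm).zpow_right i).eq
    rw [commutatorElement_def, show p * c * t ^ i * (p * c)⁻¹ = p * (c * t ^ i * c⁻¹) * p⁻¹ by group, hct,
      mul_inv_cancel_right, show p * t ^ i * p⁻¹ * (t ^ i)⁻¹ = p * (t ^ i * p⁻¹ * (t ^ i)⁻¹) by group]
    exact mul_mem hp ((mem_normalizer_iff.mp (A_le_normalizer_WW H (A.zpow_mem ht i)) _).mp (inv_mem hp))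
  refine mem_normalizer_of_maps fun w hw => ?_
  have h2 : Nat.card (zpowers t) ∣ 2 := by
    rw [Nat.card_zpowers]
    exact orderOf_dvd_of_pow_eq_one (by rw [pow_two, hA.sq ht])
  obtain ⟨p, hp, c, hc, rfl⟩ := coprime_decomp (zpowers_le.mpr (A_le_normalizer_WW H ht))
    ((Nat.coprime_two_left.mpr hWodd).coprime_dvd_left h2) (Or.inr (oddSolv _ hWodd)) hw
  rw [show g * (p * c) * g⁻¹ = (g * p * g⁻¹) * (g * c * g⁻¹) by group]
  refine mul_mem ?_ (core_le_WW ht ht1 ?_)
  · have hle : ⁅WW A, zpowers t⁆ ≤ (WW A).comap (MulAut.conj g).toMonoidHom := by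
      rw [commutator_le]
      intro x hx y hy
      show g * ⁅x, y⁆ * g⁻¹ ∈ WW A
      obtain ⟨i, rfl⟩ := mem_zpowers_iff.mp hy
      have hgi : g * t ^ i * g⁻¹ = t ^ i := by
        rw [((show Commute g t from AfterFT.CoreSep.mem_cc.mp hgt).zpow_right i).eq, mul_inv_cancel_right]
      have he : g * ⁅x, t ^ i⁆ * g⁻¹ = ⁅g * x * g⁻¹, t ^ i⁆ := by
        have h3 := map_commutatorElement (MulAut.conj g).toMonoidHom x (t ^ i)
        simp only [MulEquiv.coe_toMonoidHom, MulAut.conj_apply, hgi] at h3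
        exact h3
      rw [he]
      exact hcomm (commutator_mem_commutator (hgW x (mem_sup_left hx)) (zpow_mem (mem_zpowers t) i))
    exact hle hp
  · refine (mem_normalizer_iff.mp (cc_le_normalizer_core t hgt) c).mp ?_
    rw [← (K.WW_spec H).2 t ht ht1]
    exact mem_inf.mpr ⟨hc.1, AfterFT.CoreSep.mem_cc.mpr (hc.2 t (mem_zpowers t)).symm⟩

end CfsgLib.GoldSC.Seven
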