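import Cfsg.Agent.Lib.GoldSC.List
import Cfsg.Agent.Lib.PSU3Min.Main

/-!
A commutator fact for the Sylow 2-subgroups of `U₃(2^n)`: an element of order four moves onto every involution.

Blueprint: `blueprint/Goldschmidt.md`, D.
-/

set_option autoImplicit false
set_option linter.unusedSectionVars false
set_option linter.style.haveILetI false

namespace CfsgLib.GoldSC.Seven

open Cfsg Subgroup CfsgLib.PSU3Min CfsgLib.PSUBorel

universe u

section Model

variable {F : Type} [Field F] [Fintype F] [CharP F 2] (c : Conj F)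

theorem ug_corner_surj : ∀ b : F, ∃ y ∈ UG c, y.1.1 0 1 = b := by
  classical
  haveI : Fact (Nat.Prime 2) := ⟨Nat.prime_two⟩
  let f : UG c →* Multiplicative F :=
    { toFun := fun u => Multiplicative.ofAdd (u.1.1.1 0 1)
      map_one' := by simp
      map_mul' := fun u w => by
        rw [← ofAdd_add]
        refine congrArg Multiplicative.ofAdd ?_
        show (u.1 * w.1).1.1 0 1 = _
        rw [mul01 c (UG_le c w.2), UU_diag c u.2, UU_diag c w.2, one_mul, mul_one, add_comm] }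
  have hker : Nat.card f.ker ≤ c.q := by
    rw [← card_Fix c (b0 := 1) one_ne_zero (by rw [map_one, CharTwo.neg_eq])]
    refine Nat.card_le_card_of_injective (fun w : f.ker => (⟨w.1.1.1.1 0 2, mem_Fix c |>.mpr ?_⟩ : Fix c)) ?_
    · have hw : w.1.1.1.1 0 1 = 0 := congrArg Multiplicative.toAdd (MonoidHom.mem_ker.mp w.2)
      have h := (UG_rel c w.1.2).2
      rw [hw, zero_mul, add_zero, ← CharTwo.sub_eq_add, sub_eq_zero] at h
      exact h.symm
    · intro w w' hww
      have h0 : ∀ x : f.ker, x.1.1.1.1 0 1 = 0 := fun x => congrArg Multiplicative.toAdd (MonoidHom.mem_ker.mp x.2)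
      have h02 : w.1.1.1.1 0 2 = w'.1.1.1.1 0 2 := congrArg Subtype.val hww
      obtain ⟨a1, a2, a3⟩ := (mem_BG_iff c).mp (UG_le c w.1.2)
      obtain ⟨b1, b2, b3⟩ := (mem_BG_iff c).mp (UG_le c w'.1.2)
      refine Subtype.ext (Subtype.ext (SUs_ext c (Matrix.ext fun i j => ?_)))
      fin_cases i <;> fin_cases j <;>
        simp [UU_diag c w.1.2, UU_diag c w'.1.2, a1, a2, a3, b1, b2, b3, h0, h02, (UG_rel c w.1.2).1,
          (UG_rel c w'.1.2).1]
  have hsur : Function.Surjective f := by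
    have h1 := f.ker.card_mul_index
    rw [index_ker, card_UG c 2] at h1
    have h2 : c.q ^ 2 * c.q ≤ Nat.card f.range * c.q := by
      rw [← pow_succ, ← h1, mul_comm]
      exact Nat.mul_le_mul_left _ hker
    have h3 : Nat.card (Multiplicative F) = c.q ^ 2 := by
      rw [Nat.card_congr Multiplicative.toAdd, Nat.card_eq_fintype_card, c.card]
    rw [← MonoidHom.range_eq_top]
    exact eq_top_of_le_card _ (h3 ▸ Nat.le_of_mul_le_mul_right h2 (by have := c.one_lt; omega))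
  intro b
  obtain ⟨y, hy⟩ := hsur (Multiplicative.ofAdd b)
  exact ⟨y.1, y.2, congrArg Multiplicative.toAdd hy⟩

theorem ug_commutator {u v : SUs c 3} (hu : u ∈ UG c) (hu2 : u * u ≠ 1) (hv : v ∈ UG c) (hv2 : v * v = 1) :
    ∃ y ∈ UG c, u * y * u⁻¹ * y⁻¹ = v := by
  have d : ∀ {g : SUs c 3}, g ∈ UG c → ∀ i, g.1.1 i i = 1 := fun hg i => UU_diag c hg i
  have sq02 : ∀ {g : SUs c 3}, g ∈ UG c → (g * g).1.1 0 2 = g.1.1 0 1 * c.σ (g.1.1 0 1) := fun {g} hg => by
    rw [mul02, d hg, d hg, (UG_rel c hg).1]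
    linear_combination (CharTwo.add_self_eq_zero (g.1.1 0 2)) + -(CharTwo.add_self_eq_zero (g.1.1 0 1 * c.σ (g.1.1 0 1)))
  have sq01 : ∀ {g : SUs c 3}, g ∈ UG c → (g * g).1.1 0 1 = 0 := fun {g} hg => by
    rw [mul01 c (UG_le c hg), d hg, d hg, one_mul, mul_one, CharTwo.add_self_eq_zero]
  have ext0 : ∀ {g g' : SUs c 3}, g ∈ UG c → g' ∈ UG c → g.1.1 0 1 = g'.1.1 0 1 → g.1.1 0 2 = g'.1.1 0 2 → g = g' := by
    intro g g' hg hg' e1 e2
    obtain ⟨a1, a2, a3⟩ := (mem_BG_iff c).mp (UG_le c hg)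
    obtain ⟨b1, b2, b3⟩ := (mem_BG_iff c).mp (UG_le c hg')
    refine SUs_ext c (Matrix.ext fun i j => ?_)
    fin_cases i <;> fin_cases j <;>
      simp [d hg, d hg', a1, a2, a3, b1, b2, b3, e1, e2, (UG_rel c hg).1, (UG_rel c hg').1]
  have hu0 : u.1.1 0 1 ≠ 0 := fun e => hu2 (ext0 (mul_mem hu hu) (one_mem _)
    (by rw [sq01 hu, PSUBorel.coe_one]; simp) (by rw [sq02 hu, PSUBorel.coe_one, e]; simp))
  have hv0 : v.1.1 0 1 = 0 := by
    have h := sq02 hv
    rw [hv2] at h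
    simp at h
    exact h
  have hvf : c.σ (v.1.1 0 2) = v.1.1 0 2 := by
    have h := (UG_rel c hv).2
    rw [hv0, zero_mul, add_zero, ← CharTwo.sub_eq_add, sub_eq_zero] at h
    exact h.symm
  obtain ⟨e, he⟩ := c.exists_trace_one
  set a := u.1.1 0 1 with ha
  set c0 := v.1.1 0 2 with hc0
  have hsa : c.σ a ≠ 0 := (map_ne_zero c.σ).mpr hu0
  obtain ⟨y, hy, hyb⟩ := ug_corner_surj c (c0 * e / c.σ a)
  refine ⟨y, hy, ?_⟩
  set w := u * y * u⁻¹ * y⁻¹ with hw
  have hwU : w ∈ UG c := mul_mem (mul_mem (mul_mem hu hy) (inv_mem hu)) (inv_mem hy)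
  have hwe : w * (y * u) = u * y := by rw [hw]; group
  have hB := mul_mem (UG_le c hy) (UG_le c hu)
  have hw01 : w.1.1 0 1 = 0 := by
    have h := congrArg (fun g : SUs c 3 => g.1.1 0 1) hwe
    simp only [mul01 c hB, mul01 c (UG_le c hy), mul01 c (UG_le c hu), d hwU, d (mul_mem hy hu), d hy, d hu] at h
    linear_combination h
  refine ext0 hwU hv (by rw [hw01, hv0]) ?_
  have h := congrArg (fun g : SUs c 3 => g.1.1 0 2) hwe
  simp only [mul02 c w (y * u), mul02 c u y, mul02 c y u, hw01, d hwU, d (mul_mem hy hu), d hy, d hu,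
    (UG_rel c hy).1, (UG_rel c hu).1, hyb, ← ha] at h
  have h1 : c.σ (c0 * e / c.σ a) * a = c0 * c.σ e := by
    rw [map_div₀, map_mul, hvf, c.invol]
    field_simp
  have h2 : c0 * e / c.σ a * c.σ a = c0 * e := div_mul_cancel₀ _ hsa
  show w.1.1 0 2 = c0
  linear_combination h - h1 + h2 + c0 * he - (CharTwo.add_self_eq_zero (c0 * c.σ e))

end Model

/-- An element of order four of a Sylow 2-subgroup of `U₃(2^n)` moves onto every involution of it. -/
theorem u3_commutator {K : Type u} [Group K] [Finite K] (h : IsU3 K) (T : Sylow 2 K) {u : K}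
    (hu : u ∈ (T : Subgroup K)) (hu2 : u * u ≠ 1) {v : K} (hv : v ∈ (T : Subgroup K)) (hv2 : v * v = 1) :
    ∃ y ∈ (T : Subgroup K), u * y * u⁻¹ * y⁻¹ = v := by
  classical
  haveI : Fact (Nat.Prime 2) := ⟨Nat.prime_two⟩
  obtain ⟨F, i1, i2, n, hn, hc, ⟨e⟩⟩ := h
  haveI : CharP F 2 := charP_of_card_eq_prime_pow (f := n * 2) (by rw [hc, ← pow_mul])
  obtain ⟨-, σ, hσ⟩ := CfsgLib.UnitaryBasic.frob_exists hc
  let c : Conj F := ⟨2 ^ n, σ, hc, hσ⟩
  obtain ⟨E⟩ := exists_iso c (n := 3)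
  let φ : SUs c 3 →* K := (e.symm.toMonoidHom.comp (QuotientGroup.mk' _)).comp E.toMonoidHom
  have hφ : Function.Surjective φ :=
    (e.symm.surjective.comp (QuotientGroup.mk'_surjective _)).comp E.surjective
  have hker : φ.ker ≤ center (SUs c 3) := fun x hx => by
    have h1 : e.symm (QuotientGroup.mk' _ (E x)) = 1 := hx
    have h2 := e.symm.injective (h1.trans (map_one _).symm)
    rw [QuotientGroup.mk'_apply, QuotientGroup.eq_one_iff, Subgroup.mem_center_iff] at h2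
    exact Subgroup.mem_center_iff.mpr fun y => E.injective (by rw [map_mul, map_mul]; exact h2 _)
  have hinj : ∀ x ∈ UG c, φ x = 1 → x = 1 := fun x hx hx1 => by
    obtain ⟨k, hk⟩ := exists_ppow c 2 hx
    have h3 : orderOf x ∣ 3 := by
      refine Dvd.dvd.trans ?_ (card_center c).1
      rw [← Subgroup.orderOf_mk _ (hker hx1)]
      exact orderOf_dvd_natCard _
    exact orderOf_eq_one_iff.mp (Nat.eq_one_of_dvd_coprimes (Nat.Coprime.pow_left k (by decide : Nat.Coprime 2 3))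
      (orderOf_dvd_of_pow_eq_one hk) h3)
  have hidx : ¬ 2 ∣ ((UG c).map φ).index := fun hd => by
    have h1 : 2 ∣ (UG c).index := hd.trans (index_map_dvd _ hφ)
    have h2 := (UG c).card_mul_index
    rw [card_UG c 2, card_G] at h2
    rw [Nat.eq_of_mul_eq_mul_left (pow_pos (by have := c.one_lt; omega) 3) h2] at h1
    rcases Nat.prime_two.dvd_mul.mp h1 with h3 | h3
    · exact not_dvd_sq_sub_one c 2 h3
    · exact not_dvd_add_one 2 ((p_dvd_q c 2).trans (dvd_pow_self _ three_ne_zero)) h3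
  obtain ⟨g, hg⟩ := MulAction.exists_smul_eq K (((isPGroup_UU c 2).map φ).toSylow hidx) T
  have hmem : ∀ {x}, x ∈ (T : Subgroup K) → ∃ x' ∈ UG c, g * φ x' * g⁻¹ = x := by
    intro x hx
    rw [← hg, Sylow.coe_subgroup_smul] at hx
    obtain ⟨_, ⟨x', hx', rfl⟩, rfl⟩ := hx
    exact ⟨x', hx', rfl⟩
  obtain ⟨u', hu', rfl⟩ := hmem hu
  obtain ⟨v', hv', rfl⟩ := hmem hv
  obtain ⟨y, hy, hye⟩ := ug_commutator c hu' (fun e1 => hu2 (by
    rw [show g * φ u' * g⁻¹ * (g * φ u' * g⁻¹) = g * (φ u' * φ u') * g⁻¹ by group, ← map_mul, e1, map_one,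
      mul_one, mul_inv_cancel])) hv' (hinj _ (mul_mem hv' hv') (by
    rw [show g * φ v' * g⁻¹ * (g * φ v' * g⁻¹) = g * (φ v' * φ v') * g⁻¹ by group, ← map_mul,
      conj_eq_one_iff] at hv2
    exact hv2))
  refine ⟨g * φ y * g⁻¹, ?_, ?_⟩
  · rw [← hg, Sylow.coe_subgroup_smul]
    exact ⟨φ y, ⟨y, hy, rfl⟩, rfl⟩
  · rw [← hye, map_mul, map_mul, map_mul, map_inv, map_inv]
    group

end CfsgLib.GoldSC.Seven
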