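import Cfsg.Agent.Lib.GoldSC.Seven.Simple
import Cfsg.Agent.Lib.GoldSC.Seven.Squares
import Cfsg.Agent.Lib.GoldSC.Inner
import Cfsg.Agent.Lib.GoldSC.Four.Local
import Cfsg.Agent.Lib.MaxClassFusion.Small

/-!
`|A| = 8`: a central involution of the Sylow subgroup centralises all seven components.

Blueprint: `blueprint/Goldschmidt.md`, D.
-/

set_option autoImplicit false
set_option linter.unusedSectionVars false
set_option linter.style.haveILetI false

namespace CfsgLib.GoldSC.Seven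

open Cfsg Subgroup CfsgLib CfsgLib.Comp CfsgLib.AfterFT.CoreSep
open CfsgLib.S3Simple (Closed imA mem_imA blockD mem_blockD blockD_le self_mem_blockD actQ actQ_apply
  component_isSimple component_not_comm centralizes_of_actQ not_le_centralizer card_mul_le_of_disjoint)
open scoped commutatorElement

universe u

variable {G : Type u} [Group G] [Finite G] {S : Sylow 2 G} {A : Subgroup G}

/-- The 2-elements over a component have order at most two. -/
def Ex2 {a : G} (P : Pt S a) (E : Subgroup (qq a)) : Prop :=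
  ∀ x ∈ (P.syl : Subgroup (qq a)), x ∈ E → x * x = 1

theorem Std.moved (H : Std S A) {a : G} (ha : a ∈ A) {E : Subgroup (qq a)}
    (hb : blockD A a E = zpowers a) : ¬ imA A a ≤ centralizer (E : Set (qq a)) :=
  not_le_centralizer H.closed ha (ne_A H hb)

theorem Std.imA_comm (H : Std S A) {a : G} (ha : a ∈ A) (ha1 : a ≠ 1) {x v : qq a}
    (hx : x ∈ ((H.pt ha ha1).syl : Subgroup (qq a))) (hv : v ∈ imA A a) : x * v = v * x := by
  obtain ⟨s, hs, hsc, rfl⟩ := (H.pt ha ha1).exists_of_mem_syl hx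
  obtain ⟨⟨c, hc⟩, hcA, rfl⟩ := hv
  rw [← map_mul, ← map_mul]
  exact congrArg _ (Subtype.ext (H.central s hs c hcA))

/-- The Sylow subgroup normalises the component of a line. -/
theorem Std.normalizes (H : Std S A) {a : G} (ha : a ∈ A) (ha1 : a ≠ 1) {E : Subgroup (qq a)}
    (hE : IsComponent E) (hb : blockD A a E = zpowers a) :
    ((H.pt ha ha1).syl : Subgroup (qq a)) ≤ Subgroup.normalizer (E : Set (qq a)) := by
  intro x hx
  obtain ⟨v, hv, hvc⟩ := SetLike.not_le_iff_exists.mp (H.moved ha hb)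
  exact (H.pt ha ha1).normalizes_moved H.hyp H.closed H.card hE hv hvc (H.imA_comm ha ha1 hx hv)

/-- The involutions of the Sylow subgroup of a component come from `A`. -/
theorem Std.lift_sq (H : Std S A) {a : G} (ha : a ∈ A) (ha1 : a ≠ 1) {E : Subgroup (qq a)}
    (hE : IsComponent E) (hb : blockD A a E = zpowers a) {x : qq a}
    (hx : x ∈ ((H.pt ha ha1).syl : Subgroup (qq a))) (hxE : x ∈ E) (hx2 : x * x = 1) : x ∈ imA A a := by
  obtain ⟨PD, hPD⟩ := CfsgLib.CharPLocal.exists_sylow_subnormal (H.pt ha ha1).syl hE.1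
  obtain ⟨e', he', hee⟩ := hPD.ge (show x ∈ ((H.pt ha ha1).syl : Subgroup (qq a)) ⊓ E from ⟨hx, hxE⟩)
  obtain ⟨e, he, heq⟩ := (H.hyp.ctx ha1).exists_lift_sq ((H.pt ha ha1).closed H.closed) hE (H.moved ha hb) hPD
    (x := QuotientGroup.mk' (center ↥E) e') ⟨e', he', rfl⟩ (by
      rw [← map_mul, show e' * e' = 1 from Subtype.ext (by show (e' : qq a) * e' = 1; rw [← hx2, ← hee]; rfl), map_one])
  have h1 : e = e' := inv_mul_eq_one.mp (mem_bot.mp (H.center_eq_bot ha ha1 hE hb ▸ QuotientGroup.eq.mp heq))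
  rw [← hee, ← h1]
  exact he

/-- Either the 2-elements over the component are involutions and the component is on Walter's list, or it is
`U₃`. -/
theorem Std.dichotomy (H : Std S A) {a : G} (ha : a ∈ A) (ha1 : a ≠ 1) {E : Subgroup (qq a)}
    (hE : IsComponent E) (hb : blockD A a E = zpowers a) :
    (Ex2 (H.pt ha ha1) E → WalterAb.Listed (↥E ⧸ center ↥E)) ∧
      (¬ Ex2 (H.pt ha ha1) E → IsU3 (↥E ⧸ center ↥E)) := by
  classical
  haveI : Fact (Nat.Prime 2) := ⟨Nat.prime_two⟩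
  haveI := component_isSimple hE
  set P := H.pt ha ha1
  have hM := H.hyp.ctx ha1
  have hT := P.closed H.closed
  obtain ⟨PD, hPD⟩ := CfsgLib.CharPLocal.exists_sylow_subnormal P.syl hE.1
  let TQ : Sylow 2 (↥E ⧸ center ↥E) := PD.mapSurjective (QuotientGroup.mk'_surjective _)
  have hmem : ∀ q ∈ (TQ : Subgroup (↥E ⧸ center ↥E)),
      ∃ e : ↥E, (e : qq a) ∈ (P.syl : Subgroup (qq a)) ∧ QuotientGroup.mk' _ e = q := by
    rintro _ ⟨e, he, rfl⟩
    exact ⟨e, (hPD.le (mem_map_of_mem E.subtype he)).1, rfl⟩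
  refine ⟨fun hex => ?_, fun hex => ?_⟩
  · refine WalterAb.listed_of_P (fun X _ _ => Walter.p_all X) _ (component_isSimple hE) (component_not_comm hE)
      fun Q => ?_
    have hab : IsMulCommutative (TQ : Subgroup (↥E ⧸ center ↥E)) := by
      refine ⟨⟨fun q r => Subtype.ext ?_⟩⟩
      have hsq : ∀ q ∈ (TQ : Subgroup (↥E ⧸ center ↥E)), q * q = 1 := fun q hq => by
        obtain ⟨e, he, rfl⟩ := hmem q hq
        rw [← map_mul, show e * e = 1 from Subtype.ext (hex _ he e.2), map_one]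
      have h1 := hsq _ (mul_mem q.2 r.2)
      show (q : ↥E ⧸ center ↥E) * r = r * q
      calc (q : ↥E ⧸ center ↥E) * r = (r * r) * (q * r) * (q * q) := by rw [hsq q q.2, hsq r r.2, one_mul, mul_one]
        _ = r * ((r * q) * (r * q)) * q := by group
        _ = r * q := by rw [hsq _ (mul_mem r.2 q.2), mul_one]
    haveI := hab
    exact ⟨⟨fun c d => (Sylow.equiv Q TQ).injective (by rw [map_mul, map_mul]; exact hab.1.comm _ _)⟩⟩
  · rcases hM.comp_listed hT hE (H.moved ha hb) with hw | hs | hu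
    · exfalso
      refine hex fun x hx hxE => ?_
      obtain ⟨e, he, hee⟩ := hPD.ge (show x ∈ (P.syl : Subgroup (qq a)) ⊓ E from ⟨hx, hxE⟩)
      have h1 := (hw.good TQ).selfCent.sq _ ⟨e, he, rfl⟩
      rw [← map_mul, QuotientGroup.mk'_apply, QuotientGroup.eq_one_iff, H.center_eq_bot ha ha1 hE hb, mem_bot] at h1
      rw [← hee]
      exact congrArg Subtype.val h1
    · exfalso
      have h8 := CfsgLib.S3Simple.suzuki_eight hs TQ
      have hd : (imA A a ⊓ E) ⊓ (imA A a ⊓ centralizer (E : Set (qq a))) = ⊥ := (eq_bot_iff_forall _).mpr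
        fun x hx => H.eq_one_of_mem ha ha1 hE hb hx.1.2 hx.2.2
      have h1 := card_mul_le_of_disjoint (M := imA A a) inf_le_left inf_le_left hd
      have hle : Nat.card (imA A a) ≤ 8 := by
        refine le_trans (Nat.le_of_dvd Nat.card_pos (card_map_dvd _ _)) ?_
        rw [Nat.card_congr (subgroupOfEquivOfLe (H.closed.le_cc ha)).toEquiv, H.card]
      have h2 : 2 ≤ Nat.card (imA A a ⊓ centralizer (E : Set (qq a)) : Subgroup (qq a)) := by
        refine Finite.one_lt_card_iff_nontrivial.mpr ((nontrivial_iff_ne_bot _).mpr fun e => ha1 ?_)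
        have haa := H.closed.mem_cc ha ha
        have hm : ff a ⟨a, haa⟩ ∈ imA A a ⊓ centralizer (E : Set (qq a)) :=
          ⟨mem_imA ha haa, ((mem_blockD haa).mp (self_mem_blockD ha E)).2⟩
        rw [e, mem_bot] at hm
        exact H.closed.ff_inj ha haa hm
      have h3 : Nat.card {q // q ∈ (TQ : Subgroup (↥E ⧸ center ↥E)) ∧ q * q = 1} ≤
          Nat.card (imA A a ⊓ E : Subgroup (qq a)) := by
        have hl : ∀ q : {q // q ∈ (TQ : Subgroup (↥E ⧸ center ↥E)) ∧ q * q = 1},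
            ∃ e : ↥E, (e : qq a) ∈ imA A a ∧ QuotientGroup.mk' (center ↥E) e = q :=
          fun q => hM.exists_lift_sq hT hE (H.moved ha hb) hPD q.2.1 q.2.2
        refine Nat.card_le_card_of_injective (fun q => (⟨((hl q).choose : qq a), (hl q).choose_spec.1,
          (hl q).choose.2⟩ : ↥(imA A a ⊓ E))) fun q r hqr => Subtype.ext ?_
        rw [← (hl q).choose_spec.2, ← (hl r).choose_spec.2]
        exact congrArg _ (Subtype.ext (congrArg Subtype.val hqr :))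
      have h4 := Nat.mul_le_mul_left (Nat.card (imA A a ⊓ E : Subgroup (qq a))) h2
      omega
    · exact hu

/-- When the 2-elements over the component are involutions, the Sylow subgroup acts on it as `A`. -/
theorem Std.inner_ex2 (H : Std S A) {a : G} (ha : a ∈ A) (ha1 : a ≠ 1) {E : Subgroup (qq a)}
    (hE : IsComponent E) (hb : blockD A a E = zpowers a) (hex : Ex2 (H.pt ha ha1) E) {x : qq a}
    (hx : x ∈ ((H.pt ha ha1).syl : Subgroup (qq a))) :
    ∃ v ∈ imA A a, v * x ∈ centralizer (E : Set (qq a)) := by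
  haveI : Fact (Nat.Prime 2) := ⟨Nat.prime_two⟩
  haveI := component_isSimple hE
  set P := H.pt ha ha1
  have hM := H.hyp.ctx ha1
  have hT := P.closed H.closed
  have hxN := H.normalizes ha ha1 hE hb hx
  obtain ⟨PD, hPD⟩ := CfsgLib.CharPLocal.exists_sylow_subnormal P.syl hE.1
  let TQ : Sylow 2 (↥E ⧸ center ↥E) := PD.mapSurjective (QuotientGroup.mk'_surjective _)
  have hg := ((H.dichotomy ha ha1 hE hb).1 hex).good TQ
  obtain ⟨j, hj⟩ := P.syl.2 ⟨x, hx⟩
  obtain ⟨q, hq, hφ⟩ := hg.inner (actQ E ⟨x, hxN⟩) j (by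
      rw [← map_pow, show (⟨x, hxN⟩ : Subgroup.normalizer (E : Set (qq a))) ^ 2 ^ j = 1 from
        Subtype.ext (show x ^ 2 ^ j = 1 from congrArg Subtype.val hj), map_one])
    fun r hr => by
      obtain ⟨e, he, rfl⟩ := hM.exists_lift_sq hT hE (H.moved ha hb) hPD hr (hg.selfCent.sq r hr)
      rw [actQ_apply]
      refine congrArg _ (Subtype.ext ?_)
      show x * e * x⁻¹ = (e : qq a)
      rw [H.imA_comm ha ha1 hx he, mul_inv_cancel_right]
  obtain ⟨e, he, rfl⟩ := hM.exists_lift_sq hT hE (H.moved ha hb) hPD hq (hg.selfCent.sq q hq)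
  exact ⟨e, he, mul_mem_centralizer_of_actQ hE hxN e (Subtype.ext (hT.sq he)) hφ⟩

/-- No component is `U₃`. -/
theorem Std.ex2 (H : Std S A) {t : G} (ht : t ∈ A) (ht1 : t ≠ 1) {E : Subgroup (qq t)}
    (hE : IsComponent E) (hb : blockD A t E = zpowers t) : Ex2 (H.pt ht ht1) E := by
  classical
  haveI : Fact (Nat.Prime 2) := ⟨Nat.prime_two⟩
  haveI := component_isSimple hE
  by_contra hex
  have hA := H.closed
  set P := H.pt ht ht1
  have hu3 := (H.dichotomy ht ht1 hE hb).2 hex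
  unfold Ex2 at hex
  push Not at hex
  obtain ⟨x₀, hx₀, hx₀E, hx₀2⟩ := hex
  -- an element of order four
  obtain ⟨x, hx, hxE, hx2, hx4⟩ : ∃ x ∈ (P.syl : Subgroup (qq t)), x ∈ E ∧ x * x ≠ 1 ∧ (x * x) * (x * x) = 1 := by
    have hex' : ∃ n, x₀ ^ 2 ^ n = 1 := by
      obtain ⟨j, hj⟩ := P.syl.2 ⟨x₀, hx₀⟩
      exact ⟨j, congrArg Subtype.val hj⟩
    have h2 : 2 ≤ Nat.find hex' := by
      by_contra hlt
      refine hx₀2 ?_
      have h' := Nat.find_spec hex'
      obtain h0 | h0 : Nat.find hex' = 0 ∨ Nat.find hex' = 1 := by omega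
      · rw [h0, pow_zero, pow_one] at h'
        rw [h', one_mul]
      · rw [h0, pow_one, pow_two] at h'
        exact h'
    have hdbl : ∀ k, x₀ ^ 2 ^ k * x₀ ^ 2 ^ k = x₀ ^ 2 ^ (k + 1) := fun k => by
      rw [← pow_add, ← mul_two, ← pow_succ]
    refine ⟨x₀ ^ 2 ^ (Nat.find hex' - 2), pow_mem hx₀ _, pow_mem hx₀E _, ?_, ?_⟩
    · rw [hdbl]
      exact Nat.find_min hex' (by omega)
    · rw [hdbl, hdbl,
        show Nat.find hex' - 2 + 1 + 1 = Nat.find hex' by omega]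
      exact Nat.find_spec hex'
  obtain ⟨s, hs, hsc, rfl⟩ := P.exists_of_mem_syl hx
  have hS2 : IsPGroup 2 (S : Subgroup G) := S.2
  -- its square
  set u := s * s with hu
  have huS : u ∈ (S : Subgroup G) := mul_mem hs hs
  obtain ⟨⟨u', hu'c⟩, hu'A, hu'e⟩ := H.lift_sq ht ht1 hE hb (mul_mem hx hx) (mul_mem hxE hxE) hx4
  have hu' : u' = u := GoldSC.ff_inj hS2 (hA.le hu'A) huS hu'c (mul_mem hsc hsc) hu'e
  subst hu'
  have hu1 : u ≠ 1 := fun e => hx2 (by rw [← map_mul, show (⟨s, hsc⟩ : ↥(cc t)) * ⟨s, hsc⟩ = 1 from Subtype.ext e, map_one])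
  have huA : u ∈ A := hu'A
  set Pu := H.pt huA hu1
  obtain ⟨E', hE', hb'⟩ := H.block u huA hu1
  have hsu : s ∈ cc u := AfterFT.CoreSep.mem_cc.mpr (by rw [hu, mul_assoc])
  have hcm : ∀ {r}, r ∈ (S : Subgroup G) → ⁅s, r⁆ ∈ (S : Subgroup G) := fun hr => by
    rw [commutatorElement_def]
    exact mul_mem (mul_mem (mul_mem hs hr) (inv_mem hs)) (inv_mem hr)
  -- each element of `A` over `E` is a commutator with an element of order four
  have hsq : ∀ {r : G}, r ∈ (S : Subgroup G) → ∀ hr : r ∈ cc t, ff t ⟨r, hr⟩ ∈ E → r * r ≠ 1 →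
      ∀ c ∈ A, ∀ hc : c ∈ cc t, ff t ⟨c, hc⟩ ∈ E → ∃ y ∈ (S : Subgroup G), r * y * r⁻¹ * y⁻¹ = c := by
    intro r hrS hr hrE hr2 c hc hcc hcE
    obtain ⟨PD, hPD⟩ := CfsgLib.CharPLocal.exists_sylow_subnormal P.syl hE.1
    let TQ : Sylow 2 (↥E ⧸ center ↥E) := PD.mapSurjective (QuotientGroup.mk'_surjective _)
    have hTQ : ∀ {g : G}, g ∈ (S : Subgroup G) → ∀ h : g ∈ cc t, ∀ hg : ff t ⟨g, h⟩ ∈ E,
        QuotientGroup.mk' (center ↥E) ⟨_, hg⟩ ∈ (TQ : Subgroup (↥E ⧸ center ↥E)) := by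
      intro g hgS h hg
      obtain ⟨e', he', hee⟩ := hPD.ge ⟨P.mem_syl hgS h, hg⟩
      exact ⟨e', he', congrArg _ (Subtype.ext hee)⟩
    have hz := H.center_eq_bot ht ht1 hE hb
    obtain ⟨_, ⟨e, he, rfl⟩, hye⟩ := u3_commutator hu3 TQ (hTQ hrS hr hrE) (fun h1 => hr2 (by
        rw [← map_mul, QuotientGroup.mk'_apply, QuotientGroup.eq_one_iff, hz, mem_bot] at h1
        have h2 : ff t ⟨r, hr⟩ * ff t ⟨r, hr⟩ = 1 := congrArg Subtype.val h1
        rw [← map_mul] at h2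
        refine GoldSC.ff_inj hS2 (mul_mem hrS hrS) (one_mem _) (mul_mem hr hr) (one_mem _) ?_
        exact h2.trans (map_one _).symm))
      (hTQ (hA.le hc) hcc hcE) (by
        rw [← map_mul, show (⟨_, hcE⟩ : ↥E) * ⟨_, hcE⟩ = 1 from Subtype.ext (by
          show ff t ⟨c, hcc⟩ * ff t ⟨c, hcc⟩ = 1
          rw [← map_mul, show (⟨c, hcc⟩ : ↥(cc t)) * ⟨c, hcc⟩ = 1 from Subtype.ext (hA.sq hc), map_one]), map_one])
    obtain ⟨y, hyS, hyc, hye'⟩ := P.exists_of_mem_syl (hPD.le (mem_map_of_mem E.subtype he)).1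
    refine ⟨y, hyS, GoldSC.ff_inj hS2 (mul_mem (mul_mem (mul_mem hrS hyS) (inv_mem hrS)) (inv_mem hyS))
      (hA.le hc) (mul_mem (mul_mem (mul_mem hr hyc) (inv_mem hr)) (inv_mem hyc)) hcc ?_⟩
    rw [← map_inv, ← map_inv, ← map_mul, ← map_mul, ← map_mul] at hye
    have h1 := QuotientGroup.eq.mp hye
    rw [hz, mem_bot, inv_mul_eq_one] at h1
    rw [show (⟨r * y * r⁻¹ * y⁻¹, mul_mem (mul_mem (mul_mem hr hyc) (inv_mem hr)) (inv_mem hyc)⟩ : ↥(cc t)) =
      ⟨r, hr⟩ * ⟨y, hyc⟩ * ⟨r, hr⟩⁻¹ * ⟨y, hyc⟩⁻¹ from rfl, map_mul, map_mul, map_mul, map_inv, map_inv, hye']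
    exact congrArg Subtype.val h1
  -- an element over both components is an involution
  have hclaim : ∀ r ∈ (S : Subgroup G), ∀ hrt : r ∈ cc t, ∀ hru : r ∈ cc u,
      ff t ⟨r, hrt⟩ ∈ E → ff u ⟨r, hru⟩ ∈ E' → r * r = 1 := by
    intro r hr hrt hru hrE hrE'
    by_contra hr2
    obtain ⟨y, hy, hye⟩ := hsq hr hrt hrE hr2 u huA (mul_mem hsc hsc)
      (by rw [show (⟨u, mul_mem hsc hsc⟩ : ↥(cc t)) = ⟨s, hsc⟩ * ⟨s, hsc⟩ from rfl, map_mul]
          exact mul_mem hxE hxE)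
    have hyu : y ∈ cc u := Pu.le hy
    have huu : u ∈ cc u := Pu.le huS
    refine hu1 (hA.ff_inj huA huu (H.eq_one_of_mem huA hu1 hE' hb' ?_
      ((mem_blockD huu).mp (self_mem_blockD huA E')).2))
    rw [show (⟨u, huu⟩ : ↥(cc u)) = ⟨r, hru⟩ * (⟨y, hyu⟩ * ⟨r, hru⟩⁻¹ * ⟨y, hyu⟩⁻¹) from Subtype.ext (by
      show u = r * (y * r⁻¹ * y⁻¹)
      rw [← hye]; group), map_mul, map_mul, map_mul, map_inv, map_inv]
    exact mul_mem hrE' ((mem_normalizer_iff.mp (H.normalizes huA hu1 hE' hb' (Pu.mem_syl hy hyu)) _).mp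
      (inv_mem hrE'))
  -- `s` acts on the component at its square as an element of `A`
  obtain ⟨b, hbA, hbc⟩ : ∃ b ∈ imA A u, b * ff u ⟨s, hsu⟩ ∈ centralizer (E' : Set (qq u)) := by
    by_cases hex' : Ex2 Pu E'
    · exact H.inner_ex2 huA hu1 hE' hb' hex' (Pu.mem_syl hs hsu)
    haveI := component_isSimple hE'
    have hM := H.hyp.ctx hu1
    have hT := Pu.closed hA
    have hsN := H.normalizes huA hu1 hE' hb' (Pu.mem_syl hs hsu)
    obtain ⟨PD, hPD⟩ := CfsgLib.CharPLocal.exists_sylow_subnormal Pu.syl hE'.1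
    let TQ : Sylow 2 (↥E' ⧸ center ↥E') := PD.mapSurjective (QuotientGroup.mk'_surjective _)
    have hloc : Local TQ := (hM.comp_listed hT hE' (H.moved huA hb')).loc TQ
    set φ := actQ E' ⟨ff u ⟨s, hsu⟩, hsN⟩ with hφ
    have hφ2 : φ * φ = 1 := by
      rw [hφ, ← map_mul]
      refine actQ_of_centralizes (x := ff u ⟨s, hsu⟩ * ff u ⟨s, hsu⟩) (mul_mem hsN hsN) ?_
      rw [← map_mul]
      exact ((mem_blockD (Pu.le huS)).mp (self_mem_blockD huA E')).2
    obtain ⟨q, hq, hqe⟩ := hloc.inner φ hφ2 (fun r hr hr2 => by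
        obtain ⟨e, he, rfl⟩ := hM.exists_lift_sq hT hE' (H.moved huA hb') hPD hr hr2
        rw [hφ, actQ_apply]
        refine congrArg _ (Subtype.ext ?_)
        show ff u ⟨s, hsu⟩ * e * (ff u ⟨s, hsu⟩)⁻¹ = (e : qq u)
        rw [H.imA_comm huA hu1 (Pu.mem_syl hs hsu) he, mul_inv_cancel_right])
      (by
        rintro _ ⟨e, he, rfl⟩
        obtain ⟨r, hr, hru, hre⟩ := Pu.exists_of_mem_syl (hPD.le (mem_map_of_mem E'.subtype he)).1
        have hcru : ⁅s, r⁆ ∈ cc u := Pu.le (hcm hr)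
        have hE'm : ff u ⟨⁅s, r⁆, hcru⟩ ∈ E' := by
          rw [show (⟨⁅s, r⁆, hcru⟩ : ↥(cc u)) = ⟨s, hsu⟩ * ⟨r, hru⟩ * ⟨s, hsu⟩⁻¹ * ⟨r, hru⟩⁻¹ from
            Subtype.ext (commutatorElement_def s r), map_mul, map_mul, map_mul, map_inv, map_inv, hre]
          exact mul_mem ((mem_normalizer_iff.mp hsN _).mp e.2) (inv_mem e.2)
        have heq : φ (QuotientGroup.mk' _ e) * (QuotientGroup.mk' _ e)⁻¹ = QuotientGroup.mk' _ ⟨_, hE'm⟩ := by
          rw [hφ, actQ_apply]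
          refine (map_mul_inv (QuotientGroup.mk' (center ↥E')) _ _).symm.trans (congrArg _ (Subtype.ext ?_))
          show ff u ⟨s, hsu⟩ * (e : qq u) * (ff u ⟨s, hsu⟩)⁻¹ * (e : qq u)⁻¹ = ff u ⟨⁅s, r⁆, hcru⟩
          rw [← show ff u ⟨r, hru⟩ = (e : qq u) from hre, ← map_inv, ← map_inv, ← map_mul, ← map_mul, ← map_mul]
          exact congrArg _ (Subtype.ext (commutatorElement_def s r).symm)
        rw [heq]
        refine ⟨?_, ?_⟩
        · obtain ⟨e', he', hee⟩ := hPD.ge ⟨Pu.mem_syl (hcm hr) hcru, hE'm⟩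
          exact ⟨e', he', congrArg _ (Subtype.ext hee)⟩
        · have hrt : r ∈ cc t := P.le hr
          have hct : ⁅s, r⁆ ∈ cc t := P.le (hcm hr)
          have h2 : ⁅s, r⁆ * ⁅s, r⁆ = 1 := hclaim _ (hcm hr) hct hcru (by
            rw [show (⟨⁅s, r⁆, hct⟩ : ↥(cc t)) = ⟨s, hsc⟩ * (⟨r, hrt⟩ * ⟨s, hsc⟩⁻¹ * ⟨r, hrt⟩⁻¹) from
              Subtype.ext (show ⁅s, r⁆ = s * (r * s⁻¹ * r⁻¹) by rw [commutatorElement_def]; group), map_mul,
              map_mul, map_mul, map_inv, map_inv]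
            exact mul_mem hxE ((mem_normalizer_iff.mp (H.normalizes ht ht1 hE hb (P.mem_syl hr hrt)) _).mp
              (inv_mem hxE))) hE'm
          rw [← map_mul, show (⟨_, hE'm⟩ : ↥E') * ⟨_, hE'm⟩ = 1 from Subtype.ext (by
            show ff u ⟨⁅s, r⁆, hcru⟩ * ff u ⟨⁅s, r⁆, hcru⟩ = 1
            rw [← map_mul, show (⟨⁅s, r⁆, hcru⟩ : ↥(cc u)) * ⟨⁅s, r⁆, hcru⟩ = 1 from Subtype.ext h2, map_one]),
            map_one])
    have hq2 : q * q = 1 := conj_injective (component_not_comm hE') (by rw [map_mul, ← hqe, hφ2, map_one])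
    obtain ⟨e, he, rfl⟩ := hM.exists_lift_sq hT hE' (H.moved huA hb') hPD hq hq2
    exact ⟨e, he, mul_mem_centralizer_of_actQ hE' hsN e (Subtype.ext (hT.sq he)) hqe⟩
  -- so all of `A` over `E` lies in `⟨u⟩`
  obtain ⟨V, k, hk, -, hV⟩ := H.hyp.exists_block' hA ht ht1 hE (ne_A H hb)
  have hle : V ≤ zpowers u := fun c hc => by
    have hcA := hk.V_le hc
    obtain ⟨y, hy, hye⟩ := hsq hs hsc hxE (fun e => hu1 e) c hcA (hA.mem_cc ht hcA) (hV c hc _)
    have hyu : y ∈ cc u := Pu.le hy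
    have hcu : c ∈ cc u := hA.mem_cc huA hcA
    rw [← hb']
    refine (mem_blockD hcu).mpr ⟨hcA, ?_⟩
    set σ := ff u ⟨s, hsu⟩
    set η := ff u ⟨y, hyu⟩
    have hyN := H.normalizes huA hu1 hE' hb' (Pu.mem_syl hy hyu)
    have hcomm : η * b = b * η := H.imA_comm huA hu1 (Pu.mem_syl hy hyu) hbA
    have h1 : ff u ⟨c, hcu⟩ = σ * η * σ⁻¹ * η⁻¹ := by
      rw [show (⟨c, hcu⟩ : ↥(cc u)) = ⟨s, hsu⟩ * ⟨y, hyu⟩ * ⟨s, hsu⟩⁻¹ * ⟨y, hyu⟩⁻¹ from Subtype.ext hye.symm,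
        map_mul, map_mul, map_mul, map_inv, map_inv]
    rw [h1]
    have hbN : b ∈ Subgroup.normalizer (E' : Set (qq u)) :=
      (H.hyp.ctx hu1).closed_normalizes (Pu.closed hA) hE' hbA
    have h2 : b⁻¹ * ((b * σ) * η * (b * σ)⁻¹ * η⁻¹) * b = σ * η * σ⁻¹ * η⁻¹ := by
      have h3 : b⁻¹ * η⁻¹ * b = η⁻¹ := by
        rw [mul_assoc, (Commute.inv_left (show Commute η b from hcomm)).eq, inv_mul_cancel_left]
      calc b⁻¹ * ((b * σ) * η * (b * σ)⁻¹ * η⁻¹) * b = σ * η * σ⁻¹ * (b⁻¹ * η⁻¹ * b) := by group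
        _ = _ := by rw [h3]
    rw [← h2]
    have h4 : (b * σ) * η * (b * σ)⁻¹ * η⁻¹ ∈ centralizer (E' : Set (qq u)) := by
      rw [show (b * σ) * η * (b * σ)⁻¹ * η⁻¹ = (b * σ) * (η * (b * σ)⁻¹ * η⁻¹) by group]
      exact mul_mem hbc (conj_mem_centralizer hyN (inv_mem hbc))
    have h5 := conj_mem_centralizer (inv_mem hbN) h4
    rwa [inv_inv] at h5
  have h1 := hk.four_le.trans (Nat.le_of_dvd Nat.card_pos (card_dvd_of_le hle))
  have h2 := H.card_zpowers_le huA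
  omega

/-- An involution of the centre of the Sylow subgroup centralising every component of a line. -/
theorem Std.exists_kernel (H : Std S A) : ∃ z : G, ∃ _P : Pt S z,
    ∀ a ∈ A, a ≠ 1 → ∀ E : Subgroup (qq a), IsComponent E → blockD A a E = zpowers a →
      ∀ hz : z ∈ cc a, ff a ⟨z, hz⟩ ∈ centralizer (E : Set (qq a)) := by
  classical
  haveI : Fact (Nat.Prime 2) := ⟨Nat.prime_two⟩
  let K : Subgroup G := ⨅ i : Σ' (a : G) (_ : a ∈ A) (_ : a ≠ 1) (E : Subgroup (qq a)),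
      IsComponent E ∧ blockD A a E = zpowers a,
    ((centralizer (i.2.2.2.1 : Set (qq i.1))).comap (ff i.1)).map (cc i.1).subtype
  have hmem : ∀ s ∈ (S : Subgroup G), ∀ r ∈ (S : Subgroup G), ⁅s, r⁆ ∈ K := by
    intro s hs r hr
    refine Subgroup.mem_iInf.mpr ?_
    rintro ⟨a, ha, ha1, E, hE, hb⟩
    set P := H.pt ha ha1
    have hsc := P.le hs
    have hrc := P.le hr
    refine ⟨⁅(⟨s, hsc⟩ : ↥(cc a)), ⟨r, hrc⟩⁆, ?_, rfl⟩
    show ff a _ ∈ centralizer (E : Set (qq a))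
    obtain ⟨v, hv, hvc⟩ := H.inner_ex2 ha ha1 hE hb (H.ex2 ha ha1 hE hb) (P.mem_syl hs hsc)
    rw [map_commutatorElement, commutatorElement_def]
    set σ := ff a ⟨s, hsc⟩
    set ρ := ff a ⟨r, hrc⟩
    have hρN := H.normalizes ha ha1 hE hb (P.mem_syl hr hrc)
    have hvN := (H.hyp.ctx ha1).closed_normalizes (P.closed H.closed) hE hv
    have hρv : ρ * v = v * ρ := H.imA_comm ha ha1 (P.mem_syl hr hrc) hv
    have h2 : v⁻¹ * ((v * σ) * ρ * (v * σ)⁻¹ * ρ⁻¹) * v = σ * ρ * σ⁻¹ * ρ⁻¹ := by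
      have h3 : v⁻¹ * ρ⁻¹ * v = ρ⁻¹ := by
        rw [mul_assoc, (Commute.inv_left (show Commute ρ v from hρv)).eq, inv_mul_cancel_left]
      calc v⁻¹ * ((v * σ) * ρ * (v * σ)⁻¹ * ρ⁻¹) * v = σ * ρ * σ⁻¹ * (v⁻¹ * ρ⁻¹ * v) := by group
        _ = _ := by rw [h3]
    rw [← h2]
    have h4 : (v * σ) * ρ * (v * σ)⁻¹ * ρ⁻¹ ∈ centralizer (E : Set (qq a)) := by
      rw [show (v * σ) * ρ * (v * σ)⁻¹ * ρ⁻¹ = (v * σ) * (ρ * (v * σ)⁻¹ * ρ⁻¹) by group]
      exact mul_mem hvc (conj_mem_centralizer hρN (inv_mem hvc))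
    have h5 := conj_mem_centralizer (inv_mem hvN) h4
    rwa [inv_inv] at h5
  have hne : commutator (S : Subgroup G) ≠ ⊥ := fun e => H.hyp.nonabel S ⟨⟨fun p q => by
    have h1 := commutator_mem_commutator (mem_top p) (mem_top q)
    rw [← commutator_def, e, mem_bot] at h1
    exact commutatorElement_eq_one_iff_mul_comm.mp h1⟩⟩
  obtain ⟨z, hz, hzc, hzo⟩ := CfsgLib.MaxClassFusion.exists_central_orderOf S.2 (commutator (S : Subgroup G)) hne
  have hzK : (z : G) ∈ K := by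
    have hle : commutator (S : Subgroup G) ≤ K.comap (S : Subgroup G).subtype := by
      rw [commutator_def, commutator_le]
      intro p _ q _
      rw [mem_comap, map_commutatorElement]
      exact hmem p p.2 q q.2
    exact hle hz
  refine ⟨z, ⟨?_, ?_, fun s hs => AfterFT.CoreSep.mem_cc.mpr ?_⟩, fun a ha ha1 E hE hb hza => ?_⟩
  · rw [← coe_mul, ← pow_two]
    exact congrArg Subtype.val (orderOf_dvd_iff_pow_eq_one.mp hzo.dvd)
  · intro e
    rw [← orderOf_coe, e, orderOf_one] at hzo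
    omega
  · exact congrArg Subtype.val (mem_center_iff.mp hzc ⟨s, hs⟩)
  · obtain ⟨y, hy, hye⟩ := Subgroup.mem_iInf.mp hzK ⟨a, ha, ha1, E, hE, hb⟩
    have : y = ⟨z, hza⟩ := Subtype.ext hye
    exact this ▸ hy

end CfsgLib.GoldSC.Seven
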