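import Cfsg.Agent.Lib.GoldSC.Seven.Kernel

/-!
`|A| = 8`: a `Big` component at a point centralising a component of a line is centralised by that line.

Blueprint: `blueprint/Goldschmidt.md`, D.
-/

set_option autoImplicit false
set_option linter.unusedSectionVars false
set_option linter.style.haveILetI false

namespace CfsgLib.GoldSC.Seven

open Cfsg Subgroup CfsgLib CfsgLib.Comp CfsgLib.AfterFT.CoreSep
open CfsgLib.S3Simple (Closed imA mem_imA blockD mem_blockD self_mem_blockD actQ oddSolv component_isSimple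
  component_not_comm centralizes_of_actQ exists_perfect_map)
open scoped commutatorElement

universe u

local notation "PSL₂[" F "]" => Matrix.ProjectiveSpecialLinearGroup (Fin 2) F

/-- The stabilisers of involutions in the automorphism group of a `Big` group are solvable. -/
theorem big_solvStab {K : Type u} [Group K] [Finite K] (h : Big K) {q : K} (hq : q ≠ 1) (hq2 : q * q = 1) :
    Group.IsSolvable (MulAction.stabilizer (MulAut K) q) := by
  classical
  obtain ⟨F, i1, i2, hc, h11, ⟨e⟩⟩ := h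
  have hs := WalterAb.solvStab_odd (F := F) hc (e q) (fun e1 => hq (e.map_eq_one_iff.mp e1))
    (by rw [← map_mul, hq2, map_one])
  let f : MulAction.stabilizer (MulAut K) q →* MulAction.stabilizer (MulAut PSL₂[F]) (e q) :=
    ((MulAut.congr e).toMonoidHom.comp (MulAction.stabilizer (MulAut K) q).subtype).codRestrict _ fun φ => by
      show MulAut.congr e φ.1 (e q) = e q
      rw [WalterAb.congr_apply_map]
      exact congrArg e φ.2
  exact Group.isSolvable_of_isSolvable_injective (f := f) fun φ ψ h =>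
    Subtype.ext ((MulAut.congr e).injective (congrArg Subtype.val h))

/-- A perfect subgroup commuting with an element acting on a `Big` component as an involution of it centralises the
component. -/
theorem big_centralized {M : Type u} [Group M] [Finite M] {D X : Subgroup M} (hD : IsComponent D)
    (hbig : Big (↥D ⧸ center ↥D)) {τ v : M} (hτ : τ ∈ Subgroup.normalizer (D : Set M)) (hvD : v ∈ D)
    (hv2 : v * v = 1) (hvc : v⁻¹ * τ ∈ centralizer (D : Set M)) (hne : τ ∉ centralizer (D : Set M))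
    (hX : ⁅X, X⁆ = X) (hXN : X ≤ Subgroup.normalizer (D : Set M)) (hXτ : ∀ x ∈ X, x * τ = τ * x) :
    X ≤ centralizer (D : Set M) := by
  haveI := component_isSimple hD
  set q := QuotientGroup.mk' (center ↥D) ⟨v, hvD⟩ with hq
  have hτq : actQ D ⟨τ, hτ⟩ = MulAut.conj q := actQ_eq_conj hτ ⟨v, hvD⟩ hvc
  have hq2 : q * q = 1 := by
    rw [hq, ← map_mul, show (⟨v, hvD⟩ : ↥D) * ⟨v, hvD⟩ = 1 from Subtype.ext hv2, map_one]
  have hq1 : q ≠ 1 := fun e => hne (centralizes_of_actQ hD hτ (by rw [hτq, e, map_one]))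
  haveI := big_solvStab hbig hq1 hq2
  have hinj := conj_injective (K := ↥D ⧸ center ↥D) (component_not_comm hD)
  have hfix : ∀ x : ↥X, actQ D (inclusion hXN x) q = q := fun x => by
    have h1 : actQ D (inclusion hXN x) * MulAut.conj q = MulAut.conj q * actQ D (inclusion hXN x) := by
      rw [← hτq, ← map_mul, ← map_mul]
      exact congrArg _ (Subtype.ext (hXτ x x.2))
    refine hinj (MulEquiv.ext fun r => ?_)
    obtain ⟨r', rfl⟩ := (actQ D (inclusion hXN x)).surjective r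
    have h2 := DFunLike.congr_fun h1 r'
    simp only [MulAut.mul_apply, MulAut.conj_apply, map_mul, map_inv] at h2
    rw [MulAut.conj_apply, MulAut.conj_apply]
    exact h2
  let ψ : ↥X →* MulAction.stabilizer (MulAut (↥D ⧸ center ↥D)) q :=
    ((actQ D).comp (inclusion hXN)).codRestrict _ hfix
  have hψ := WalterAb.hom_eq_one_of_solvable (perfect_top hX) ψ
  intro x hx
  refine centralizes_of_actQ hD (hXN hx) ?_
  have h0 : ψ ⟨x, hx⟩ = 1 := by rw [hψ, MonoidHom.one_apply]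
  have h1 := congrArg Subtype.val h0
  rw [Subgroup.coe_one] at h1
  exact h1

variable {G : Type u} [Group G] [Finite G] {S : Sylow 2 G} {A : Subgroup G}

/-- A perfect subgroup over the component of a line, inside the commutator with `A` of the part of the preimage
centralising `y`. -/
theorem Std.exists_perfect (H : Std S A) {t : G} (ht : t ∈ A) (ht1 : t ≠ 1) {E : Subgroup (qq t)}
    (hE : IsComponent E) (hb : blockD A t E = zpowers t) {y : G} (P : Pt S y) (hyt : y ∈ cc t)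
    (hy : ff t ⟨y, hyt⟩ ∈ centralizer (E : Set (qq t))) :
    ∃ Q : Subgroup G, ⁅Q, Q⁆ = Q ∧ Q ≤ cc y ⊓ cc t ∧ (Q.subgroupOf (cc t)).map (ff t) = E ∧
      Q ≤ ⁅cc y ⊓ cc t, A⁆ := by
  classical
  haveI : Fact (Nat.Prime 2) := ⟨Nat.prime_two⟩
  have hA := H.closed
  have hAy : A ≤ cc y := P.A_le hA
  have hAt : A ≤ cc t := hA.le_cc ht
  set R0 : Subgroup ↥(cc t) := centralizer (zpowers (⟨y, hyt⟩ : ↥(cc t)) : Set ↥(cc t)) ⊓ E.comap (ff t) with hR0
  have hR0E : R0.map (ff t) = E := by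
    refine le_antisymm ((map_mono inf_le_right).trans (map_comap_le _ _)) fun x hx => ?_
    have hp : IsPGroup 2 (zpowers (⟨y, hyt⟩ : ↥(cc t))) := zpowers_two (Subtype.ext P.sq)
    obtain ⟨g, hg, rfl⟩ := (bar_centralizer_two hp).symm.le (show x ∈ centralizer
        (((zpowers (⟨y, hyt⟩ : ↥(cc t))).map (ff t) : Subgroup (qq t)) : Set (qq t)) by
      rw [MonoidHom.map_zpowers, CfsgLib.CharPLocal.centralizer_zpowers, mem_centralizer_singleton_iff]
      exact hy x hx)
    exact ⟨g, ⟨hg, hx⟩, rfl⟩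
  set R1 : Subgroup ↥(cc t) := ⁅R0, A.subgroupOf (cc t)⁆ with hR1
  have hR1E : R1.map (ff t) = E := by
    rw [hR1, map_commutator, hR0E]
    have hle : ⁅E, imA A t⁆ ≤ E := by
      rw [commutator_le]
      intro e he v hv
      have hvN := (H.hyp.ctx ht1).closed_normalizes ((H.pt ht ht1).closed hA) hE hv
      rw [commutatorElement_def, show e * v * e⁻¹ * v⁻¹ = e * (v * e⁻¹ * v⁻¹) by group]
      exact mul_mem he ((mem_normalizer_iff.mp hvN _).mp (inv_mem he))
    haveI : ((⁅E, imA A t⁆).subgroupOf E).Normal :=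
      (normal_subgroupOf_iff_le_normalizer hle).mpr (left_le_normalizer_commutator (imA A t) E)
    refine le_antisymm hle ?_
    rcases quasisimple_normal_le_center_or_eq_top hE.2 ((⁅E, imA A t⁆).subgroupOf E) with hz | hz
    · refine absurd ?_ (H.moved ht hb)
      intro v hv e he
      have hm : (⟨⁅e, v⁆, hle (commutator_mem_commutator he hv)⟩ : ↥E) ∈ center ↥E :=
        hz (commutator_mem_commutator he hv)
      rw [H.center_eq_bot ht ht1 hE hb, mem_bot] at hm
      exact commutatorElement_eq_one_iff_mul_comm.mp (congrArg Subtype.val hm)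
    · exact subgroupOf_eq_top.mp hz
  obtain ⟨P0, hP0R, hP0, hP0E⟩ := exists_perfect_map (ff t) R1 (by rw [hR1E]; exact isComponent_commutator_self hE)
  rw [hR1E] at hP0E
  have hR0le : R0.map (cc t).subtype ≤ cc y ⊓ cc t := by
    rintro _ ⟨g, hg, rfl⟩
    exact mem_inf.mpr ⟨AfterFT.CoreSep.mem_cc.mpr
      (congrArg Subtype.val ((mem_inf.mp hg).1 _ (mem_zpowers _))).symm, g.2⟩
  have hQ : P0.map (cc t).subtype ≤ ⁅cc y ⊓ cc t, A⁆ := by
    refine (map_mono hP0R).trans ?_
    rw [hR1, map_commutator]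
    exact commutator_mono hR0le (map_comap_le _ _)
  refine ⟨P0.map (cc t).subtype, by rw [← map_commutator, hP0], hQ.trans ?_, ?_, hQ⟩
  · exact (commutator_mono le_rfl (le_inf hAy hAt)).trans (commutator_le_self _)
  · rw [subgroupOf, comap_map_eq_self_of_injective (cc t).subtype_injective, hP0E]

/-- An element centralising `y` and `t` normalises a component moved by `t` at `y`; a commutator of it with an
element of `A` centralises the others and `O₂`. -/
theorem Std.comm_centralizes (H : Std S A) {t : G} (ht : t ∈ A) {y : G} (P : Pt S y) {D : Subgroup (qq y)}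
    (hD : IsComponent D) (hne : ff y ⟨t, P.A_le H.closed ht⟩ ∉ centralizer (D : Set (qq y))) {g : G}
    (hgy : g ∈ cc y) (hgt : g ∈ cc t) :
    ff y ⟨g, hgy⟩ ∈ Subgroup.normalizer (D : Set (qq y)) ∧
    ∀ a ∈ A, ∀ ha : a ∈ cc y,
      ff y ⟨g, hgy⟩ * ff y ⟨a, ha⟩ * (ff y ⟨g, hgy⟩)⁻¹ * (ff y ⟨a, ha⟩)⁻¹ ∈ centralizer (pCore 2 (qq y) : Set (qq y)) ∧
      ∀ F : Subgroup (qq y), IsComponent F → F ≠ D →
        ff y ⟨g, hgy⟩ * ff y ⟨a, ha⟩ * (ff y ⟨g, hgy⟩)⁻¹ * (ff y ⟨a, ha⟩)⁻¹ ∈ centralizer (F : Set (qq y)) := by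
  have hA := H.closed
  have hτA : ff y ⟨t, P.A_le hA ht⟩ ∈ imA A y := mem_imA ht _
  have hγ : ff y ⟨g, hgy⟩ ∈ Subgroup.normalizer (D : Set (qq y)) := by
    refine P.normalizes_moved H.hyp hA H.card hD hτA hne ?_
    rw [← map_mul, ← map_mul]
    exact congrArg _ (Subtype.ext (AfterFT.CoreSep.mem_cc.mp hgt))
  refine ⟨hγ, fun a ha hay => ?_⟩
  have hαA : ff y ⟨a, hay⟩ ∈ imA A y := mem_imA ha _
  have hαQ : ff y ⟨a, hay⟩ ∈ centralizer (pCore 2 (qq y) : Set (qq y)) := fun q hq => by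
    obtain ⟨s, hs, hsc, rfl⟩ := P.exists_of_mem_syl (pCore_two_le_sylow P.syl hq)
    rw [← map_mul, ← map_mul]
    exact congrArg _ (Subtype.ext (H.central s hs a ha))
  have hoth : ∀ F : Subgroup (qq y), IsComponent F → F ≠ D → ff y ⟨a, hay⟩ ∈ centralizer (F : Set (qq y)) :=
    fun F hF hFD => by
      by_contra hc
      exact hFD (P.unique H.hyp hA H.card hF hD (fun hle => hc (hle hαA)) fun hle => hne (hle hτA))
  refine ⟨mul_mem ?_ (inv_mem hαQ), fun F hF hFD => mul_mem (fun d hd => ?_) (inv_mem (hoth F hF hFD))⟩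
  · exact conj_mem_centralizer (mem_normalizer_of_maps fun x hx =>
      (Subgroup.sSup_normal _ (fun _ h => h.1) : (pCore 2 (qq y)).Normal).conj_mem x hx _) hαQ
  set γ := ff y ⟨g, hgy⟩
  have hF' : IsComponent (F.map (MulAut.conj γ⁻¹).toMonoidHom) := isComponent_map_equiv (MulAut.conj γ⁻¹) hF
  have hF'D : F.map (MulAut.conj γ⁻¹).toMonoidHom ≠ D := by
    intro e
    refine hFD ?_
    ext x
    constructor
    · intro hxF
      have h1 : γ⁻¹ * x * γ⁻¹⁻¹ ∈ D := e ▸ ⟨x, hxF, rfl⟩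
      have h2 := (mem_normalizer_iff.mp hγ _).mp h1
      rwa [inv_inv, show γ * (γ⁻¹ * x * γ) * γ⁻¹ = x by group] at h2
    · intro hxD
      have h1 := (mem_normalizer_iff.mp hγ (γ⁻¹ * x * γ)).mpr
        (by rw [show γ * (γ⁻¹ * x * γ) * γ⁻¹ = x by group]; exact hxD)
      obtain ⟨x', hx', hxe⟩ := e.ge h1
      have hxx : γ⁻¹ * x' * γ⁻¹⁻¹ = γ⁻¹ * x * γ := hxe
      rw [inv_inv, mul_left_inj, mul_right_inj] at hxx
      exact hxx ▸ hx'
  have h1 := hoth _ hF' hF'D (γ⁻¹ * d * γ⁻¹⁻¹) ⟨d, hd, rfl⟩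
  calc d * (γ * ff y ⟨a, hay⟩ * γ⁻¹) = γ * (γ⁻¹ * d * γ⁻¹⁻¹ * ff y ⟨a, hay⟩) * γ⁻¹ := by group
    _ = γ * (ff y ⟨a, hay⟩ * (γ⁻¹ * d * γ⁻¹⁻¹)) * γ⁻¹ := by rw [h1]
    _ = γ * ff y ⟨a, hay⟩ * γ⁻¹ * d := by group

/-- The key lemma. -/
theorem Std.key (H : Std S A) {t : G} (ht : t ∈ A) (ht1 : t ≠ 1) {E : Subgroup (qq t)} (hE : IsComponent E)
    (hb : blockD A t E = zpowers t) {y : G} (P : Pt S y)
    (hy : ∀ h : y ∈ cc t, ff t ⟨y, h⟩ ∈ centralizer (E : Set (qq t))) {D : Subgroup (qq y)} (hD : IsComponent D)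
    (hbig : Big (↥D ⧸ center ↥D)) :
    ff y ⟨t, P.A_le H.closed ht⟩ ∈ centralizer (D : Set (qq y)) := by
  classical
  haveI : Fact (Nat.Prime 2) := ⟨Nat.prime_two⟩
  by_contra hne
  have hA := H.closed
  have hAy : A ≤ cc y := P.A_le hA
  have hyt : y ∈ cc t := AfterFT.CoreSep.mem_cc.mpr (AfterFT.CoreSep.mem_cc.mp (hAy ht)).symm
  obtain ⟨Q, hQp, hQle, hQE, hQA⟩ := H.exists_perfect ht ht1 hE hb P hyt (hy hyt)
  have hQy : Q ≤ cc y := hQle.trans inf_le_left
  have hXperf : ⁅(Q.subgroupOf (cc y)).map (ff y), (Q.subgroupOf (cc y)).map (ff y)⁆ =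
      (Q.subgroupOf (cc y)).map (ff y) := by
    rw [← map_commutator]
    refine congrArg (fun K : Subgroup ↥(cc y) => K.map (ff y)) (map_injective (cc y).subtype_injective ?_)
    rw [map_commutator, map_subgroupOf_eq_of_le hQy, hQp]
  have hM := H.hyp.ctx P.ne
  have hτA : ff y ⟨t, hAy ht⟩ ∈ imA A y := mem_imA ht _
  obtain ⟨v, hv, hvD, hvc⟩ := P.exists_part H.hyp hA hD (fun hle => hne (hle hτA)) hτA
  have hXD : (Q.subgroupOf (cc y)).map (ff y) ≤ centralizer (D : Set (qq y)) := by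
    refine big_centralized hD hbig (hM.closed_normalizes (P.closed hA) hD hτA) hvD ((P.closed hA).sq hv) hvc hne
      hXperf ?_ ?_
    · rintro _ ⟨⟨g, hgy⟩, hg, rfl⟩
      exact (H.comm_centralizes ht P hD hne hgy (hQle hg).2).1
    · rintro _ ⟨⟨g, hgy⟩, hg, rfl⟩
      rw [← map_mul, ← map_mul]
      exact congrArg _ (Subtype.ext (AfterFT.CoreSep.mem_cc.mp (hQle hg).2))
  have hXC : ∀ x ∈ (Q.subgroupOf (cc y)).map (ff y), x ∈ centralizer (pCore 2 (qq y) : Set (qq y)) ∧
      ∀ F : Subgroup (qq y), IsComponent F → F ≠ D → x ∈ centralizer (F : Set (qq y)) := by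
    set C : Subgroup (qq y) := centralizer (pCore 2 (qq y) : Set (qq y)) ⊓
      ⨅ F : {F : Subgroup (qq y) // IsComponent F ∧ F ≠ D}, centralizer ((F : Subgroup (qq y)) : Set (qq y))
    have hle : ⁅cc y ⊓ cc t, A⁆ ≤ (C.comap (ff y)).map (cc y).subtype := by
      rw [commutator_le]
      intro g hg a ha
      refine ⟨⁅(⟨g, hg.1⟩ : ↥(cc y)), ⟨a, hAy ha⟩⁆, ?_, map_commutatorElement _ _ _⟩
      have h2 := (H.comm_centralizes ht P hD hne hg.1 hg.2).2 a ha (hAy ha)
      rw [SetLike.mem_coe, mem_comap, map_commutatorElement, commutatorElement_def]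
      exact mem_inf.mpr ⟨h2.1, Subgroup.mem_iInf.mpr fun F => h2.2 F F.2.1 F.2.2⟩
    rintro _ ⟨g, hg, rfl⟩
    obtain ⟨g', hg', e⟩ := hle (hQA hg)
    have : g' = g := Subtype.ext e
    subst this
    exact ⟨(mem_inf.mp hg').1, fun F hF hFD => Subgroup.mem_iInf.mp (mem_inf.mp hg').2 ⟨F, hF, hFD⟩⟩
  have hXF : ∀ x ∈ (Q.subgroupOf (cc y)).map (ff y),
      x ∈ centralizer (generalizedFittingSubgroup (qq y) : Set (qq y)) := by
    intro x hx
    have hle : generalizedFittingSubgroup (qq y) ≤ centralizer ({x} : Set (qq y)) := by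
      refine sup_le (sSup_le fun F hF d hd => ?_) fun d hd => ?_
      · refine mem_centralizer_singleton_iff.mpr ?_
        by_cases hFD : F = D
        · exact hXD hx d (hFD ▸ hd)
        · exact (hXC x hx).2 F hF hFD d hd
      · refine mem_centralizer_singleton_iff.mpr ?_
        rw [fitting_eq_pCore Nat.prime_two hM.core] at hd
        exact (hXC x hx).1 d hd
    exact fun d hd => mem_centralizer_singleton_iff.mp (hle hd)
  have hXbot : (Q.subgroupOf (cc y)).map (ff y) = ⊥ := by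
    rw [← hXperf, commutator_eq_bot_iff_le_centralizer]
    exact fun x hx w hw => hXF x hx w (centralizer_generalizedFitting_le (hXF w hw))
  have hodd : Odd (Nat.card Q) := odd_of_le (fun g hg => mem_core_of_bar (w := ⟨g, hQy hg⟩)
    (mem_bot.mp (hXbot ▸ ⟨⟨g, hQy hg⟩, hg, rfl⟩))) (odd_card_core y)
  refine component_not_le_of_isSolvable hE (oddSolv _ (hodd.of_dvd_nat ?_)) hQE.ge
  exact (card_map_dvd _ _).trans
    (dvd_of_eq (Nat.card_congr (subgroupOfEquivOfLe (hQle.trans inf_le_right)).toEquiv))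

/-- A kernel involution. -/
structure Ker (S : Sylow 2 G) (A : Subgroup G) (z : G) : Prop where
  pt : Pt S z
  ker : ∀ a ∈ A, a ≠ 1 → ∀ E : Subgroup (qq a), IsComponent E → blockD A a E = zpowers a →
    ∀ hz : z ∈ cc a, ff a ⟨z, hz⟩ ∈ centralizer (E : Set (qq a))

theorem Ker.not_mem {z : G} (K : Ker S A z) (H : Std S A) : z ∉ A := fun hz => by
  obtain ⟨a, ha, ha1, haz⟩ : ∃ a ∈ A, a ≠ 1 ∧ a ≠ z := by
    by_contra! hcon
    have h1 : A ≤ zpowers z := fun a ha => by
      by_cases ha1 : a = 1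
      · exact ha1 ▸ one_mem _
      · exact hcon a ha ha1 ▸ mem_zpowers _
    have h2 := (Nat.le_of_dvd Nat.card_pos (card_dvd_of_le h1)).trans (H.card_zpowers_le hz)
    have := H.card
    omega
  obtain ⟨E, hE, hb⟩ := H.block a ha ha1
  have hzc := H.closed.mem_cc ha hz
  have h1 : z ∈ zpowers a := hb ▸ (mem_blockD hzc).mpr ⟨hz, K.ker a ha ha1 E hE hb hzc⟩
  obtain ⟨i, hi⟩ := mem_zpowers_iff.mp h1
  have ha2 : a ^ (2 : ℤ) = 1 := by rw [zpow_two]; exact H.closed.sq ha
  rcases Int.even_or_odd' i with ⟨m, rfl | rfl⟩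
  · rw [zpow_mul, ha2, one_zpow] at hi
    exact K.pt.ne hi.symm
  · rw [zpow_add, zpow_mul, ha2, one_zpow, one_mul, zpow_one] at hi
    exact haz hi

/-- The product with an element of `A` is a point. -/
theorem Ker.pt_mul {z : G} (K : Ker S A z) (H : Std S A) {t : G} (ht : t ∈ A) : Pt S (t * z) := by
  have htz : t * z = z * t := AfterFT.CoreSep.mem_cc.mp (K.pt.A_le H.closed ht)
  refine ⟨?_, fun e => K.not_mem H ?_, fun s hs => AfterFT.CoreSep.mem_cc.mpr ?_⟩
  · calc t * z * (t * z) = t * (z * t) * z := by group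
      _ = t * t * (z * z) := by rw [← htz]; group
      _ = 1 := by rw [H.closed.sq ht, K.pt.sq, one_mul]
  · rw [eq_inv_of_mul_eq_one_right e]
    exact inv_mem ht
  · rw [← mul_assoc, H.central s hs t ht, mul_assoc, AfterFT.CoreSep.mem_cc.mp (K.pt.le hs), mul_assoc]

/-- No `Big` component at `z` is moved by `A`. -/
theorem Ker.big_central {z : G} (K : Ker S A z) (H : Std S A) {D : Subgroup (qq z)} (hD : IsComponent D)
    (hbig : Big (↥D ⧸ center ↥D)) {a : G} (ha : a ∈ A) :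
    ff z ⟨a, K.pt.A_le H.closed ha⟩ ∈ centralizer (D : Set (qq z)) := by
  rcases eq_or_ne a 1 with rfl | ha1
  · rw [show (⟨1, K.pt.A_le H.closed ha⟩ : ↥(cc z)) = 1 from rfl, map_one]
    exact one_mem _
  obtain ⟨E, hE, hb⟩ := H.block a ha ha1
  exact H.key ha ha1 hE hb K.pt (K.ker a ha ha1 E hE hb) hD hbig

/-- At `t z` the element `t` centralises the `Big` components. -/
theorem Ker.big_shift {z : G} (K : Ker S A z) (H : Std S A) {t : G} (ht : t ∈ A) (ht1 : t ≠ 1)
    {D : Subgroup (qq (t * z))} (hD : IsComponent D) (hbig : Big (↥D ⧸ center ↥D)) :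
    ff (t * z) ⟨t, (K.pt_mul H ht).A_le H.closed ht⟩ ∈ centralizer (D : Set (qq (t * z))) := by
  obtain ⟨E, hE, hb⟩ := H.block t ht ht1
  refine H.key ht ht1 hE hb (K.pt_mul H ht) (fun h => ?_) hD hbig
  have htt : t ∈ cc t := H.closed.mem_cc ht ht
  have hzt : z ∈ cc t := by
    have := mul_mem (inv_mem htt) h
    rwa [inv_mul_cancel_left] at this
  rw [show (⟨t * z, h⟩ : ↥(cc t)) = ⟨t, htt⟩ * ⟨z, hzt⟩ from rfl, map_mul]
  exact mul_mem ((mem_blockD htt).mp (self_mem_blockD ht E)).2 (K.ker t ht ht1 E hE hb hzt)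

theorem Std.exists_ker (H : Std S A) : ∃ z : G, Ker S A z := by
  obtain ⟨z, P, hk⟩ := H.exists_kernel
  exact ⟨z, P, hk⟩

end CfsgLib.GoldSC.Seven
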