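import Cfsg.Agent.Lib.GoldSC.Blocks
import Cfsg.Agent.Lib.S3Simple.Many.Balance
import Cfsg.Agent.Lib.S3Simple.Dispatch

/-!
`|A| = 8`: the situation at an involution `y` whose centraliser contains the Sylow subgroup.

Blueprint: `blueprint/Goldschmidt.md`, D.
-/

set_option autoImplicit false
set_option linter.unusedSectionVars false
set_option linter.style.haveILetI false

namespace CfsgLib.GoldSC.Seven

open Cfsg Subgroup CfsgLib CfsgLib.Comp CfsgLib.AfterFT.CoreSep
open CfsgLib.S3Simple (Closed imA mem_imA actQ actQ_apply oddSolv component_isSimple component_not_comm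
  centralizes_of_actQ card_mul_le_of_disjoint core_centralizes_component mem_normalizer_of_map_eq)

universe u

/-! ### The action on the simple quotient of a component -/

section Act

variable {M : Type u} [Group M] [Finite M] {D : Subgroup M}

/-- An element centralising `D` acts trivially on its quotient by the centre. -/
theorem actQ_of_centralizes {x : M} (hx : x ∈ Subgroup.normalizer (D : Set M))
    (hc : x ∈ Subgroup.centralizer (D : Set M)) : actQ D ⟨x, hx⟩ = 1 := by
  refine MulEquiv.ext fun r => ?_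
  obtain ⟨e, rfl⟩ := QuotientGroup.mk'_surjective _ r
  rw [actQ_apply, MulAut.one_apply]
  refine congrArg _ (Subtype.ext ?_)
  show x * e * x⁻¹ = (e : M)
  rw [← hc e e.2, mul_inv_cancel_right]

/-- An element of `D` acts on the quotient by conjugation. -/
theorem actQ_self (e : ↥D) :
    actQ D ⟨e, le_normalizer e.2⟩ = MulAut.conj (QuotientGroup.mk' (center ↥D) e) := by
  refine MulEquiv.ext fun r => ?_
  obtain ⟨d, rfl⟩ := QuotientGroup.mk'_surjective _ r
  rw [actQ_apply, MulAut.conj_apply, ← map_inv, ← map_mul, ← map_mul]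
  rfl

/-- An element acting as `e ∈ D` does induces conjugation by the image of `e`. -/
theorem actQ_eq_conj {x : M} (hx : x ∈ Subgroup.normalizer (D : Set M)) (e : ↥D)
    (h : (e : M)⁻¹ * x ∈ Subgroup.centralizer (D : Set M)) :
    actQ D ⟨x, hx⟩ = MulAut.conj (QuotientGroup.mk' (center ↥D) e) := by
  have hn : (e : M)⁻¹ * x ∈ Subgroup.normalizer (D : Set M) := mul_mem (inv_mem (le_normalizer e.2)) hx
  rw [show (⟨x, hx⟩ : Subgroup.normalizer (D : Set M)) = ⟨e, le_normalizer e.2⟩ * ⟨(e : M)⁻¹ * x, hn⟩ from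
    Subtype.ext (mul_inv_cancel_left _ x).symm, map_mul, actQ_of_centralizes hn h, mul_one, actQ_self]

/-- Equal centralisers give the same core. -/
theorem coreC_le_of_eq {R R' : Subgroup M} (h : centralizer (R : Set M) = centralizer (R' : Set M)) :
    coreC R ≤ coreC R' :=
  le_coreC ((coreC_centralizes R).trans h.le) (h.symm.le.trans (centralizer_le_normalizer_coreC R))
    (Nat.coprime_two_right.mpr (odd_card_coreC R))

end Act

variable {G : Type u} [Group G] [Finite G] {S : Sylow 2 G} {A : Subgroup G}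

/-- An involution centralised by the Sylow subgroup. -/
structure Pt (S : Sylow 2 G) (y : G) : Prop where
  sq : y * y = 1
  ne : y ≠ 1
  le : (S : Subgroup G) ≤ cc y

theorem Pt.A_le {y : G} (P : Pt S y) (hA : Closed S A) : A ≤ cc y := hA.le.trans P.le

/-- The image of the Sylow subgroup. -/
noncomputable def Pt.syl {y : G} (P : Pt S y) : Sylow 2 (qq y) :=
  haveI : Fact (Nat.Prime 2) := ⟨Nat.prime_two⟩
  (S.subtype P.le).mapSurjective (f := ff y) (bar_surjective 2)

theorem Pt.mem_syl {y : G} (P : Pt S y) {s : G} (hs : s ∈ (S : Subgroup G)) (h : s ∈ cc y) :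
    ff y ⟨s, h⟩ ∈ (P.syl : Subgroup (qq y)) := ⟨⟨s, h⟩, hs, rfl⟩

theorem Pt.exists_of_mem_syl {y : G} (P : Pt S y) {q : qq y} (hq : q ∈ (P.syl : Subgroup (qq y))) :
    ∃ s ∈ (S : Subgroup G), ∃ h : s ∈ cc y, ff y ⟨s, h⟩ = q := by
  obtain ⟨⟨s, h⟩, hs, rfl⟩ := hq
  exact ⟨s, hs, h, rfl⟩

theorem Pt.closed {y : G} (P : Pt S y) (hA : Closed S A) : Closed P.syl (imA A y) := by
  obtain ⟨T, hT⟩ := imA_closed_at hA (P.A_le hA)
  refine hT.of_le ?_
  rintro _ ⟨⟨a, h⟩, ha, rfl⟩
  exact P.mem_syl (hA.le ha) h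

/-- Components moved by `A`: with `|A| = 8` there is only one. -/
theorem Pt.unique {y : G} (P : Pt S y) (h : Hyp G) (hA : Closed S A) (h8 : Nat.card A = 8) {D D' : Subgroup (qq y)}
    (hD : IsComponent D) (hD' : IsComponent D') (hm : ¬ imA A y ≤ centralizer (D : Set (qq y)))
    (hm' : ¬ imA A y ≤ centralizer (D' : Set (qq y))) : D = D' := by
  by_contra hne
  obtain ⟨V, k, hb⟩ := (h.ctx P.ne).exists_compBlock (P.closed hA) hD hm
  obtain ⟨V', k', hb'⟩ := (h.ctx P.ne).exists_compBlock (P.closed hA) hD' hm'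
  have hc := commutator_eq_bot_iff_le_centralizer.mp ((components_eq_or_commute hD' hD).resolve_left (Ne.symm hne))
  have hd : V ⊓ V' = ⊥ := le_bot_iff.mp (fun v hv => hb.disjoint ▸
    ⟨⟨(hb'.V_le hv.2).1, hc (hb'.V_le hv.2).2⟩, hv.1⟩)
  have h1 := card_mul_le_of_disjoint (fun v hv => (hb.V_le hv).1) (fun v hv => (hb'.V_le hv).1) hd
  have h2 : Nat.card (imA A y) ≤ 8 := by
    refine le_trans (Nat.le_of_dvd Nat.card_pos (card_map_dvd _ _)) ?_
    rw [Nat.card_congr (subgroupOfEquivOfLe (P.A_le hA)).toEquiv, h8]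
  have h4 := Nat.mul_le_mul hb.four_le hb'.four_le
  omega

/-- An element commuting with a witness normalises the moved component. -/
theorem Pt.normalizes_moved {y : G} (P : Pt S y) (h : Hyp G) (hA : Closed S A) (h8 : Nat.card A = 8)
    {D : Subgroup (qq y)} (hD : IsComponent D) {v g : qq y} (hv : v ∈ imA A y)
    (hne : v ∉ centralizer (D : Set (qq y))) (hg : g * v = v * g) : g ∈ Subgroup.normalizer (D : Set (qq y)) := by
  refine mem_normalizer_of_map_eq (P.unique h hA h8 (isComponent_map_equiv (MulAut.conj g) hD) hD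
    (fun hle => hne ?_) fun hle => hne (hle hv))
  intro d hd
  have h1 := hle hv (g * d * g⁻¹) ⟨d, hd, rfl⟩
  have h2 : g * v * g⁻¹ = v := by rw [hg, mul_inv_cancel_right]
  rw [← h2] at h1
  have e1 : g * d * g⁻¹ * (g * v * g⁻¹) = g * (d * v) * g⁻¹ := by group
  have e2 : g * v * g⁻¹ * (g * d * g⁻¹) = g * (v * d) * g⁻¹ := by group
  rw [e1, e2] at h1
  exact mul_left_cancel (mul_right_cancel h1)

/-- The part in a moved component of an element of `A`. -/
theorem Pt.exists_part {y : G} (P : Pt S y) (h : Hyp G) (hA : Closed S A) {D : Subgroup (qq y)}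
    (hD : IsComponent D) (hm : ¬ imA A y ≤ centralizer (D : Set (qq y))) {b : qq y} (hb : b ∈ imA A y) :
    ∃ v ∈ imA A y, v ∈ D ∧ v⁻¹ * b ∈ centralizer (D : Set (qq y)) := by
  obtain ⟨V, k, hbl⟩ := (h.ctx P.ne).exists_compBlock (P.closed hA) hD hm
  obtain ⟨d, hd, v, hv, rfl⟩ := hbl.split (fun a ha b hb => (P.closed hA).comm ha hb) hb
  refine ⟨v, (hbl.V_le hv).1, (hbl.V_le hv).2, ?_⟩
  rw [(P.closed hA).comm hd.1 (hbl.V_le hv).1, inv_mul_cancel_left]
  exact hd.2

/-- A component that is not `Big` has no core at the elements of `A` moving it. -/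
theorem Pt.coreless {y : G} (P : Pt S y) (h : Hyp G) (hA : Closed S A) {D : Subgroup (qq y)} (hD : IsComponent D)
    (hbig : ¬ Big (↥D ⧸ center ↥D)) {b : qq y} (hb : b ∈ imA A y) (hne : b ∉ centralizer (D : Set (qq y))) :
    coreC (zpowers b) ≤ centralizer (D : Set (qq y)) := by
  classical
  haveI : Fact (Nat.Prime 2) := ⟨Nat.prime_two⟩
  haveI := component_isSimple hD
  have hM := h.ctx P.ne
  have hT := P.closed hA
  set π := QuotientGroup.mk' (center ↥D) with hπ
  have hinj := conj_injective (K := ↥D ⧸ center ↥D) (component_not_comm hD)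
  have hm : ¬ imA A y ≤ centralizer (D : Set (qq y)) := fun hle => hne (hle hb)
  have hbN : b ∈ Subgroup.normalizer (D : Set (qq y)) := hM.closed_normalizes hT hD hb
  obtain ⟨v, hvA, hvD, hvc⟩ := P.exists_part h hA hD hm hb
  set e : ↥D := ⟨v, hvD⟩ with he
  have hq : actQ D ⟨b, hbN⟩ = MulAut.conj (π e) := actQ_eq_conj hbN e hvc
  obtain ⟨PD, hPD⟩ := CfsgLib.CharPLocal.exists_sylow_subnormal P.syl hD.1
  let TQ : Sylow 2 (↥D ⧸ center ↥D) := PD.mapSurjective (QuotientGroup.mk'_surjective _)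
  have hloc : Local TQ := (hM.comp_listed hT hD hm).loc TQ
  have heT : π e ∈ (TQ : Subgroup (↥D ⧸ center ↥D)) := by
    obtain ⟨e', he', hee⟩ := hPD.ge (show v ∈ (P.syl : Subgroup (qq y)) ⊓ D from ⟨hT.le hvA, hvD⟩)
    exact ⟨e', he', congrArg π (Subtype.ext hee)⟩
  have he2 : π e * π e = 1 := by
    rw [← map_mul, show e * e = 1 from Subtype.ext (hT.sq hvA), map_one]
  have he1 : π e ≠ 1 := fun e1 => hne (centralizes_of_actQ hD hbN (by rw [hq, e1, map_one]))
  -- enlarge `⟨b⟩` by the centre of `D`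
  set Z := (center ↥D).map D.subtype with hZ
  set R := zpowers b ⊔ Z with hR
  have hR2 : IsPGroup 2 R := P.syl.2.to_le (sup_le (zpowers_le.mpr (hT.le hb)) (hM.center_le_sylow P.syl hD))
  have hZQ : Z ≤ pCore 2 (qq y) := by
    haveI : Group.IsNilpotent (Z : Subgroup (qq y)) := nilpotent_of_comm (by
      rintro _ ⟨a, ha, rfl⟩ _ ⟨c, -, rfl⟩
      exact congrArg Subtype.val ((mem_center_iff.mp ha c).symm))
    have hsn : (Z : Subgroup (qq y)).IsSubnormal :=
      (inferInstance : (center ↥D).Normal).isSubnormal.trans' hD.1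
    have h' := isSubnormal_nilpotent_le_fitting hsn inferInstance
    rwa [fitting_eq_pCore Nat.prime_two hM.core] at h'
  have hb2 : IsPGroup 2 (zpowers b) := zpowers_two (hT.sq hb)
  have hle : coreC (zpowers b) ≤ coreC R := by
    refine le_coreC (le_centralizer_iff.mp (sup_le (le_centralizer_iff.mp (coreC_centralizes _)) ?_))
      ((centralizer_le (s := (zpowers b : Set (qq y))) (le_sup_left : zpowers b ≤ R)).trans
        (centralizer_le_normalizer_coreC _))
      (Nat.coprime_two_right.mpr (odd_card_coreC _))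
    exact le_centralizer_iff.mp fun u hu z hz => coreC_centralizes_pCore hM.core hb2 hu z (hZQ hz)
  refine hle.trans fun u hu => ?_
  have hUN : coreC R ≤ Subgroup.normalizer (D : Set (qq y)) := coreC_normalizes hM.core hR2 hD
  let ψ : ↥(coreC R) →* MulAut (↥D ⧸ center ↥D) := (actQ D).comp (inclusion hUN)
  have hY : ψ.range = ⊥ := by
    refine hloc.core hbig _ heT he2 he1 _ ((odd_card_coreC R).of_dvd_nat (card_range_dvd ψ)) ?_ ?_
    · rintro _ ⟨x, rfl⟩
      have hxb : (x : qq y) * b = b * x :=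
        (coreC_centralizes R x.2 b (mem_sup_left (mem_zpowers b))).symm
      have h1 : ψ x * MulAut.conj (π e) = MulAut.conj (π e) * ψ x := by
        rw [← hq]
        show actQ D _ * actQ D _ = actQ D _ * actQ D _
        rw [← map_mul, ← map_mul]
        exact congrArg _ (Subtype.ext hxb)
      refine hinj (MulEquiv.ext fun r => ?_)
      obtain ⟨r', rfl⟩ := (ψ x).surjective r
      have h2 := DFunLike.congr_fun h1 r'
      simp only [MulAut.mul_apply, MulAut.conj_apply, map_mul, map_inv] at h2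
      rw [MulAut.conj_apply, MulAut.conj_apply]
      exact h2
    · rintro c hc _ ⟨x, rfl⟩
      obtain ⟨d, rfl⟩ := QuotientGroup.mk'_surjective _ c
      -- `d` fixes `v` modulo the centre, so it normalises `R`
      have hdz : e⁻¹ * (d * e * d⁻¹) ∈ center ↥D := by
        refine QuotientGroup.eq.mp ?_
        show π e = π (d * e * d⁻¹)
        rw [map_mul, map_mul, map_inv]
        exact (mul_inv_eq_of_eq_mul hc).symm
      have hdR : (d : qq y) ∈ Subgroup.normalizer (R : Set (qq y)) := mem_normalizer_of_maps fun r hr => by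
        have hsub : R ≤ R.comap (MulAut.conj (d : qq y)).toMonoidHom := by
          refine sup_le (zpowers_le.mpr ?_) ?_
          · show (d : qq y) * b * (d : qq y)⁻¹ ∈ R
            have h3 : (d : qq y) * b * (d : qq y)⁻¹ = b * ((e⁻¹ * (d * e * d⁻¹) : ↥D) : qq y) := by
              have hc1 := hvc (d : qq y) d.2
              have hc2 := hvc _ (e⁻¹ * (d * e * d⁻¹) : ↥D).2
              calc (d : qq y) * b * (d : qq y)⁻¹
                  = (d : qq y) * v * ((v⁻¹ * b) * (d : qq y)⁻¹) := by group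
                _ = (d : qq y) * v * ((d : qq y)⁻¹ * (v⁻¹ * b)) := by
                    rw [← hvc _ (inv_mem d.2)]
                _ = v * (((e⁻¹ * (d * e * d⁻¹) : ↥D) : qq y) * (v⁻¹ * b)) := by
                    simp only [Subgroup.coe_mul, InvMemClass.coe_inv, he]; group
                _ = _ := by rw [hc2]; group
            rw [h3]
            exact mul_mem_sup (mem_zpowers b) ⟨_, hdz, rfl⟩
          · rintro _ ⟨z, hz, rfl⟩
            refine mem_sup_right ⟨z, hz, ?_⟩
            show (z : qq y) = d * z * (d : qq y)⁻¹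
            rw [show (d : qq y) * z = z * d from congrArg Subtype.val (mem_center_iff.mp hz d), mul_inv_cancel_right]
        exact hsub hr
      refine ⟨⟨(d : qq y) * x * (d : qq y)⁻¹,
        (mem_normalizer_iff.mp (normalizer_le_normalizer_coreC R hdR) _).mp x.2⟩, ?_⟩
      show actQ D _ = _
      rw [← actQ_self d]
      show _ = actQ D _ * actQ D _ * (actQ D _)⁻¹
      rw [← map_inv, ← map_mul, ← map_mul]
      exact congrArg _ (Subtype.ext rfl)
  exact centralizes_of_actQ hD (hUN hu) (mem_bot.mp (hY ▸ ⟨⟨u, hu⟩, rfl⟩))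

/-- What lies in a core and in `C(y)` lies in `O(C(y))` when it centralises the `Big` components moved by `A`: the
core is that of an element `x` with the centraliser, in `C(y)/O`, of an element of `A`. -/
theorem Pt.mem_core {y : G} (P : Pt S y) (h : Hyp G) (hA : Closed S A) {a x : G} (ha : a ∈ A) (hx : x ∈ cc y)
    (hx2 : x * x = 1)
    (hcen : centralizer ({ff y ⟨x, hx⟩} : Set (qq y)) = centralizer ({ff y ⟨a, P.A_le hA ha⟩} : Set (qq y)))
    {w : G} (hw : w ∈ centralizerPPrimeCore 2 x) (hwy : w ∈ cc y)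
    (hbig : ∀ D : Subgroup (qq y), IsComponent D → Big (↥D ⧸ center ↥D) →
      ff y ⟨a, P.A_le hA ha⟩ ∉ centralizer (D : Set (qq y)) → ff y ⟨w, hwy⟩ ∈ centralizer (D : Set (qq y))) :
    w ∈ centralizerPPrimeCore 2 y := by
  refine mem_core_of_centralizes hx hx2 hw hwy fun D hD => ?_
  by_cases hc : ff y ⟨a, P.A_le hA ha⟩ ∈ centralizer (D : Set (qq y))
  · refine core_centralizes_component hx hx2 hw hwy hD fun d hd => ?_
    have h1 : d ∈ centralizer ({ff y ⟨a, P.A_le hA ha⟩} : Set (qq y)) :=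
      mem_centralizer_singleton_iff.mpr (hc d hd)
    rw [← hcen] at h1
    exact mem_centralizer_singleton_iff.mp h1
  by_cases hB : Big (↥D ⧸ center ↥D)
  · exact hbig D hD hB hc
  refine P.coreless h hA hD hB (mem_imA ha _) hc (coreC_le_of_eq ?_ (image_core hx hx2 ⟨w, hwy⟩ hw))
  rw [CfsgLib.CharPLocal.centralizer_zpowers, CfsgLib.CharPLocal.centralizer_zpowers, hcen]

/-- The case `x = a`. -/
theorem Pt.mem_core_self {y : G} (P : Pt S y) (h : Hyp G) (hA : Closed S A) {a : G} (ha : a ∈ A) {w : G}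
    (hw : w ∈ centralizerPPrimeCore 2 a) (hwy : w ∈ cc y)
    (hbig : ∀ D : Subgroup (qq y), IsComponent D → Big (↥D ⧸ center ↥D) →
      ff y ⟨a, P.A_le hA ha⟩ ∉ centralizer (D : Set (qq y)) → ff y ⟨w, hwy⟩ ∈ centralizer (D : Set (qq y))) :
    w ∈ centralizerPPrimeCore 2 y :=
  P.mem_core h hA ha (P.A_le hA ha) (hA.sq ha) rfl hw hwy hbig

/-- The case `x = a y`. -/
theorem Pt.mem_core_shift {y : G} (P : Pt S y) (h : Hyp G) (hA : Closed S A) {a : G} (ha : a ∈ A) {w : G}
    (hw : w ∈ centralizerPPrimeCore 2 (a * y)) (hwy : w ∈ cc y)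
    (hbig : ∀ D : Subgroup (qq y), IsComponent D → Big (↥D ⧸ center ↥D) →
      ff y ⟨a, P.A_le hA ha⟩ ∉ centralizer (D : Set (qq y)) → ff y ⟨w, hwy⟩ ∈ centralizer (D : Set (qq y))) :
    w ∈ centralizerPPrimeCore 2 y := by
  have hay : a * y = y * a := mem_cc.mp (P.A_le hA ha)
  have hyy : y ∈ cc y := mem_cc.mpr rfl
  refine P.mem_core h hA ha (mul_mem (P.A_le hA ha) hyy) ?_ ?_ hw hwy hbig
  · calc a * y * (a * y) = a * (y * a) * y := by group
      _ = a * a * (y * y) := by rw [← hay]; group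
      _ = 1 := by rw [hA.sq ha, P.sq, one_mul]
  · have hz : ∀ g : qq y, g * ff y ⟨y, hyy⟩ = ff y ⟨y, hyy⟩ * g := fun g => by
      obtain ⟨g', rfl⟩ := bar_surjective 2 g
      rw [← map_mul, ← map_mul]
      exact congrArg _ (Subtype.ext (mem_cc.mp g'.2))
    rw [show (⟨a * y, mul_mem (P.A_le hA ha) hyy⟩ : ↥(cc y)) = ⟨a, P.A_le hA ha⟩ * ⟨y, hyy⟩ from rfl, map_mul]
    ext g
    rw [mem_centralizer_singleton_iff, mem_centralizer_singleton_iff, ← mul_assoc, mul_assoc _ (ff y ⟨y, hyy⟩) g,
      ← hz g, ← mul_assoc]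
    exact mul_left_inj _

end CfsgLib.GoldSC.Seven
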