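import Cfsg.Agent.Lib.GoldSC.Seven.Point
import Cfsg.Agent.Lib.SUCover.Multiplier
import Cfsg.Agent.Lib.ClassSizesPSL2.Split

/-!
`|A| = 8` with all lines blocks: the components are simple, and `A` is central in the Sylow subgroup.

Blueprint: `blueprint/Goldschmidt.md`, D.
-/

set_option autoImplicit false
set_option linter.unusedSectionVars false
set_option linter.style.haveILetI false

namespace CfsgLib.GoldSC.Seven

open Cfsg Subgroup CfsgLib CfsgLib.Comp CfsgLib.AfterFT.CoreSep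
open CfsgLib.S3Simple (Closed imA mem_imA blockD mem_blockD blockD_le self_mem_blockD component_isSimple
  component_not_comm card_mul_le_of_disjoint not_le_centralizer)

universe u

/-- The standing hypotheses of the section. -/
structure Std {G : Type u} [Group G] [Finite G] (S : Sylow 2 G) (A : Subgroup G) : Prop where
  hyp : Hyp G
  closed : Closed S A
  card : Nat.card A = 8
  block : ∀ a ∈ A, a ≠ 1 → ∃ E : Subgroup (qq a), IsComponent E ∧ blockD A a E = zpowers a

/-- A perfect central extension of `U₃(2^n)` has no centre of even order. -/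
theorem u3_center {E : Type u} [Group E] [Finite E] (hperf : commutator E = ⊤)
    (h : IsU3 (E ⧸ center E)) : Odd (Nat.card (center E)) := by
  obtain ⟨F, i1, i2, n, hn, hc, ⟨e⟩⟩ := h
  have hq : (2 : ℕ) ^ n ≠ 2 := fun e2 => by
    have h1 : (2 : ℕ) ^ 2 ≤ 2 ^ n := Nat.pow_le_pow_right (by norm_num) hn
    omega
  have hm := (CfsgLib.SUCover.multiplier (F := F) (q := 2 ^ n) (n := 3) hc le_rfl (fun h => hq h.2)
    (fun h4 => absurd h4 (by norm_num)) (fun h6 => absurd h6.1 (by norm_num))).2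
  let s : Shrink.{0} E ≃* E := Shrink.mulEquiv
  let σ : Shrink.{0} E →* Cfsg.PSU 3 F (2 ^ n) :=
    (e.toMonoidHom.comp (QuotientGroup.mk' (center E))).comp s.toMonoidHom
  have hk : σ.ker = (center E).comap s.toMonoidHom := by
    ext x
    rw [MonoidHom.mem_ker, mem_comap]
    exact e.map_eq_one_iff.trans (QuotientGroup.eq_one_iff _)
  haveI : Finite (Shrink.{0} E) := Finite.of_equiv E s.symm.toEquiv
  obtain ⟨p, hp⟩ := hm (Shrink.{0} E) σ ⟨(e.surjective.comp (QuotientGroup.mk'_surjective _)).comp s.surjective,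
    fun x hx => mem_center_iff.mpr fun y => s.injective (by
      rw [map_mul, map_mul]
      exact mem_center_iff.mp (show s x ∈ center E from hk.le hx) (s y)),
    fun x _ => by
      have h1 : (commutator (Shrink.{0} E)).map s.toMonoidHom = ⊤ := by
        rw [commutator_def, map_commutator, map_top_of_surjective _ s.surjective, ← commutator_def, hperf]
      obtain ⟨y, hy, hye⟩ := h1.ge (mem_top (s x))
      exact s.injective hye ▸ hy⟩
  have hcard : Nat.card σ.ker = Nat.card (center E) := by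
    rw [hk]
    exact Nat.card_congr (s.toEquiv.subtypeEquiv fun _ => Iff.rfl)
  haveI : NeZero (Nat.gcd 3 (2 ^ n + 1)) := ⟨(Nat.gcd_pos_of_pos_left _ (by norm_num)).ne'⟩
  have hd : Nat.card σ.ker ∣ Nat.gcd 3 (2 ^ n + 1) :=
    (Subgroup.card_dvd_of_surjective p hp).trans (dvd_of_eq (by
      rw [Nat.card_congr Multiplicative.toAdd, Nat.card_zmod]))
  rw [← hcard]
  exact (by decide : Odd 3).of_dvd_nat (hd.trans (Nat.gcd_dvd_left _ _))

section Component

variable {M : Type u} [Group M] [Finite M] {T : Sylow 2 M} {A E : Subgroup M}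

/-- A component whose part in `A` has order at most four has trivial centre. -/
theorem center_eq_bot (hM : Ctx M) (hA : Closed T A) (hE : IsComponent E)
    (hne : ¬ A ≤ centralizer (E : Set M)) (h8 : Nat.card A ≤ 8)
    (hd : A ⊓ centralizer (E : Set M) ≠ ⊥) : center ↥E = ⊥ := by
  classical
  haveI : Fact (Nat.Prime 2) := ⟨Nat.prime_two⟩
  haveI := component_isSimple hE
  haveI : Group.IsPerfect ↥E := hE.2.1
  have hperf : commutator ↥E = ⊤ := Group.isPerfect_def.mp ‹Group.IsPerfect ↥E›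
  set π := QuotientGroup.mk' (center ↥E) with hπ
  obtain ⟨V, k, hb⟩ := hM.exists_compBlock hA hE hne
  obtain ⟨P, hP⟩ := CfsgLib.CharPLocal.exists_sylow_subnormal T hE.1
  let TQ : Sylow 2 (↥E ⧸ center ↥E) := P.mapSurjective (QuotientGroup.mk'_surjective _)
  have hl := hM.comp_listed hA hE hne
  have hloc : Local TQ := hl.loc TQ
  have hV4 : Nat.card V ≤ 4 := by
    have h1 := card_mul_le_of_disjoint (H := A ⊓ centralizer (E : Set M)) inf_le_left
      (fun v hv => (hb.V_le hv).1) hb.disjoint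
    have h2 : 2 ≤ Nat.card (A ⊓ centralizer (E : Set M) : Subgroup M) :=
      Finite.one_lt_card_iff_nontrivial.mpr ((nontrivial_iff_ne_bot _).mpr hd)
    have h3 := Nat.mul_le_mul_right (Nat.card V) h2
    omega
  -- the elements of order two of the Sylow subgroup of the quotient come from `V`
  have hVK : ∀ x ∈ (TQ : Subgroup (↥E ⧸ center ↥E)), x * x = 1 → ∃ v : ↥E, (v : M) ∈ V ∧ π v = x := by
    intro x hx hx2
    rcases eq_or_ne x 1 with rfl | hx1
    · exact ⟨1, V.one_mem, map_one π⟩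
    obtain ⟨k0, hk0, htr⟩ := hloc.trans
    obtain ⟨e₀, he₀, he₀c⟩ := hM.exists_inside hA hE hne
    have hcl := hM.image_closed hA hE hP
    obtain ⟨i, hi⟩ := htr (π e₀) (hcl.1 ⟨e₀, he₀, rfl⟩)
      (by rw [← map_mul, show e₀ * e₀ = 1 from Subtype.ext (hA.sq he₀), map_one])
      (fun h => he₀c ((QuotientGroup.eq_one_iff _).mp h)) x hx hx2 hx1
    obtain ⟨e, he, hee⟩ := hcl.2 (π e₀) ⟨e₀, he₀, rfl⟩ (k0 ^ i) (by rw [hi]; exact hx)
    obtain ⟨d, hdm, v, hv, hdv⟩ := hb.split (fun a ha b hb => hA.comm ha hb) (show (e : M) ∈ A from he)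
    refine ⟨⟨v, (hb.V_le hv).2⟩, hv, ?_⟩
    rw [← hi, ← hee]
    refine QuotientGroup.eq.mpr (mem_center_iff.mpr fun g => Subtype.ext ?_)
    show (g : M) * (v⁻¹ * e) = v⁻¹ * e * g
    rw [← hdv, hA.comm hdm.1 (hb.V_le hv).1, inv_mul_cancel_left]
    exact hdm.2 g g.2
  have hcard : Nat.card {x // x ∈ (TQ : Subgroup (↥E ⧸ center ↥E)) ∧ x * x = 1} ≤ 4 := by
    refine le_trans (Nat.card_le_card_of_injective (fun x => (⟨((hVK x.1 x.2.1 x.2.2).choose : M),
      (hVK x.1 x.2.1 x.2.2).choose_spec.1⟩ : V)) fun x y hxy => Subtype.ext ?_) hV4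
    rw [← (hVK x.1 x.2.1 x.2.2).choose_spec.2, ← (hVK y.1 y.2.1 y.2.2).choose_spec.2]
    exact congrArg π (Subtype.ext (congrArg Subtype.val hxy :))
  have hZ2 : IsPGroup 2 ((center ↥E).map E.subtype) := T.2.to_le (hM.center_le_sylow T hE)
  rcases hl with hw | hsz | hu
  · -- abelian Sylow subgroups
    have hsq := (hw.good TQ).selfCent.sq
    have hPc : ∀ u ∈ (P : Subgroup ↥E), ∀ w ∈ (P : Subgroup ↥E), u * w = w * u := by
      have key : ∀ u ∈ (P : Subgroup ↥E), ∃ v : ↥E, (v : M) ∈ V ∧ v⁻¹ * u ∈ center ↥E := by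
        intro u hu
        obtain ⟨v, hv, hve⟩ := hVK (π u) ⟨u, hu, rfl⟩ (hsq _ ⟨u, hu, rfl⟩)
        exact ⟨v, hv, QuotientGroup.eq.mp hve⟩
      intro u hu w hw'
      obtain ⟨v, hv, hvu⟩ := key u hu
      obtain ⟨v', hv', hvw⟩ := key w hw'
      have hvv : v * v' = v' * v := Subtype.ext (hA.comm (hb.V_le hv).1 (hb.V_le hv').1)
      calc u * w = v * (v⁻¹ * u) * w := by rw [mul_inv_cancel_left]
        _ = v * w * (v⁻¹ * u) := by rw [mul_assoc v, ← mem_center_iff.mp hvu w, ← mul_assoc]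
        _ = v * v' * (v'⁻¹ * w) * (v⁻¹ * u) := by rw [mul_assoc v v', mul_inv_cancel_left]
        _ = v' * (v * (v'⁻¹ * w)) * (v⁻¹ * u) := by rw [hvv, mul_assoc v' v]
        _ = v' * (v'⁻¹ * w * v) * (v⁻¹ * u) := by rw [mem_center_iff.mp hvw v]
        _ = w * u := by group
    have hb0 := CfsgLib.CsPSL.commutator_inf_center_eq_bot (G := ↥E) fun r hr R z hz hzR => by
      by_cases hr2 : r = 2
      · subst hr2
        obtain ⟨g, hg⟩ := MulAction.exists_smul_eq ↥E P R
        have h0 : ⁅(R : Subgroup ↥E), (R : Subgroup ↥E)⁆ = ⊥ := by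
          rw [← hg, Sylow.coe_subgroup_smul]
          show ⁅(P : Subgroup ↥E).map (MulAut.conj g).toMonoidHom, (P : Subgroup ↥E).map (MulAut.conj g).toMonoidHom⁆ = ⊥
          rw [← map_commutator, commutator_eq_bot_iff_le_centralizer.mpr fun u hu w hw => hPc w hw u hu, Subgroup.map_bot]
        exact mem_bot.mp (h0 ▸ hzR)
      · haveI : Fact r.Prime := ⟨hr⟩
        have hzr : (z : M) ∈ (R : Subgroup ↥E).map E.subtype := ⟨z, commutator_le_self _ hzR, rfl⟩
        exact Subtype.ext (mem_bot.mp ((disjoint_iff.mp (IsPGroup.disjoint_of_ne 2 r (Ne.symm hr2) _ _ hZ2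
          (R.2.map E.subtype))) ▸ mem_inf.mpr ⟨⟨z, hz, rfl⟩, hzr⟩))
    rwa [hperf, top_inf_eq] at hb0
  · have h8' := CfsgLib.S3Simple.suzuki_eight hsz TQ
    omega
  · refine eq_bot_of_card_eq _ ?_
    obtain ⟨m, hm⟩ := IsPGroup.iff_card.mp hZ2
    rw [card_map_of_injective E.subtype_injective] at hm
    rcases Nat.eq_zero_or_pos m with rfl | hm0
    · rwa [pow_zero] at hm
    · exact absurd (hm ▸ u3_center hperf hu) (Nat.not_odd_iff_even.mpr (even_two.pow_of_ne_zero hm0.ne'))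

end Component

variable {G : Type u} [Group G] [Finite G] {S : Sylow 2 G} {A : Subgroup G}

theorem ne_A (H : Std S A) {a : G} {E : Subgroup (qq a)} (hb : blockD A a E = zpowers a) : blockD A a E ≠ A := fun e => by
  have h1 : Nat.card (zpowers a) = 8 := by rw [← hb, e, H.card]
  have h2 := Nat.card_zpowers a
  have ha : a ∈ A := e ▸ hb ▸ mem_zpowers a
  have h3 : orderOf a ∣ 2 := orderOf_dvd_of_pow_eq_one (by rw [pow_two, H.closed.sq ha])
  have h4 := Nat.le_of_dvd (by norm_num) h3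
  omega

theorem Std.card_zpowers_le (H : Std S A) {a : G} (ha : a ∈ A) : Nat.card (zpowers a) ≤ 2 := by
  rw [Nat.card_zpowers]
  exact Nat.le_of_dvd (by norm_num) (orderOf_dvd_of_pow_eq_one (by rw [pow_two, H.closed.sq ha]))

/-- The component of a line is the only one moved at it. -/
theorem Std.eq_of_moved (H : Std S A) {a : G} (ha : a ∈ A) (ha1 : a ≠ 1) {E E' : Subgroup (qq a)}
    (hE : IsComponent E) (hb : blockD A a E = zpowers a) (hE' : IsComponent E')
    (hm : ¬ imA A a ≤ centralizer (E' : Set (qq a))) : E' = E := by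
  by_contra hne
  have hne' : blockD A a E' ≠ A := fun e => hm fun y hy => by
    obtain ⟨x, hx, rfl⟩ := hy
    exact ((mem_blockD x.2).mp (e.symm ▸ (hx : (x : G) ∈ A))).2
  obtain ⟨V, k, hk, -, hV⟩ := H.hyp.exists_block' H.closed ha ha1 hE' hne'
  have hle : V ≤ blockD A a E := fun v hv => by
    have hvc := H.closed.mem_cc ha (hk.V_le hv)
    refine (mem_blockD hvc).mpr ⟨hk.V_le hv, fun e he => ?_⟩
    exact (comm_of_commutator_eq_bot ((components_eq_or_commute hE hE').resolve_left (Ne.symm hne)) he (hV v hv hvc))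
  have h1 := (Nat.le_of_dvd Nat.card_pos (card_dvd_of_le (hle.trans hb.le))).trans (H.card_zpowers_le ha)
  have := hk.four_le
  omega

/-- The component of a line is simple. -/
theorem Std.center_eq_bot (H : Std S A) {a : G} (ha : a ∈ A) (ha1 : a ≠ 1) {E : Subgroup (qq a)}
    (hE : IsComponent E) (hb : blockD A a E = zpowers a) : center ↥E = ⊥ := by
  obtain ⟨T, hT⟩ := H.closed.imA_closed ha
  refine Seven.center_eq_bot (H.hyp.ctx ha1) hT hE (not_le_centralizer H.closed ha (ne_A H hb)) ?_ fun e => ha1 ?_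
  · refine le_trans (Nat.le_of_dvd Nat.card_pos (card_map_dvd _ _)) ?_
    rw [Nat.card_congr (subgroupOfEquivOfLe (H.closed.le_cc ha)).toEquiv, H.card]
  · have haa : a ∈ cc a := H.closed.mem_cc ha ha
    have hm : ff a ⟨a, haa⟩ ∈ imA A a ⊓ centralizer (E : Set (qq a)) :=
      ⟨mem_imA ha haa, ((mem_blockD haa).mp (self_mem_blockD ha E)).2⟩
    rw [e, mem_bot] at hm
    exact H.closed.ff_inj ha haa hm

/-- An element of a component that centralises it is trivial. -/
theorem Std.eq_one_of_mem (H : Std S A) {a : G} (ha : a ∈ A) (ha1 : a ≠ 1) {E : Subgroup (qq a)}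
    (hE : IsComponent E) (hb : blockD A a E = zpowers a) {q : qq a} (hq : q ∈ E)
    (hc : q ∈ centralizer (E : Set (qq a))) : q = 1 := by
  have hm : (⟨q, hq⟩ : ↥E) ∈ center ↥E := mem_center_iff.mpr fun e => Subtype.ext (hc e e.2)
  rw [H.center_eq_bot ha ha1 hE hb, mem_bot] at hm
  exact congrArg Subtype.val hm

/-- `A` is centralised by the Sylow subgroup. -/
theorem Std.central (H : Std S A) : ∀ s ∈ (S : Subgroup G), ∀ a ∈ A, s * a = a * s := by
  classical
  haveI : Fact (Nat.Prime 2) := ⟨Nat.prime_two⟩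
  intro s hs a₀ ha₀
  by_contra hne
  have hA := H.closed
  have hsN : ∀ x ∈ A, s * x * s⁻¹ ∈ A := fun x hx =>
    (mem_normalizer_iff.mp (hA.le_normalizer hs) x).mp hx
  -- the iterated commutators with `s` die out
  let g : G → G := fun x => s * x * s⁻¹ * x⁻¹
  have hgA : ∀ x ∈ A, g x ∈ A := fun x hx => mul_mem (hsN x hx) (inv_mem hx)
  have hinv : ∀ x ∈ A, x⁻¹ = x := fun x hx => inv_eq_of_mul_eq_one_left (hA.sq hx)
  have hit : ∀ (j : ℕ) (x : G), x ∈ A → g^[2 ^ j] x = s ^ 2 ^ j * x * (s ^ 2 ^ j)⁻¹ * x⁻¹ := by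
    intro j
    induction j with
    | zero => intro x _; simp [g]
    | succ j ih =>
      intro x hx
      set r := s ^ 2 ^ j with hr
      have hrN : ∀ x ∈ A, r * x * r⁻¹ ∈ A := fun x hx =>
        (mem_normalizer_iff.mp (pow_mem (hA.le_normalizer hs) _) x).mp hx
      have hyA : r * x * r⁻¹ * x⁻¹ ∈ A := mul_mem (hrN x hx) (inv_mem hx)
      rw [show 2 ^ (j + 1) = 2 ^ j + 2 ^ j by rw [pow_succ, mul_two], Function.iterate_add_apply, ih x hx,
        ih _ hyA, pow_add, ← hr]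
      have h1 := hrN _ (hrN x hx)
      have h2 : r * (r * x * r⁻¹ * x⁻¹) * r⁻¹ * (r * x * r⁻¹ * x⁻¹)⁻¹ =
          r * r * x * (r * r)⁻¹ * (r * x⁻¹ * r⁻¹) * (x * (r * x⁻¹ * r⁻¹)) := by group
      rw [h2, hinv x hx]
      have h3 : x * (r * x * r⁻¹) = r * x * r⁻¹ * x := hA.comm hx (hrN x hx)
      have h4 : r * x * r⁻¹ * (r * x * r⁻¹) = 1 := hA.sq (hrN x hx)
      calc r * r * x * (r * r)⁻¹ * (r * x * r⁻¹) * (x * (r * x * r⁻¹))
          = r * r * x * (r * r)⁻¹ * ((r * x * r⁻¹) * (r * x * r⁻¹)) * x := by rw [h3]; group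
        _ = r * r * x * (r * r)⁻¹ * x := by rw [h4, mul_one]
  obtain ⟨j, hj⟩ := S.2 ⟨s, hs⟩
  have hfin : g^[2 ^ j] a₀ = 1 := by
    rw [hit j a₀ ha₀, show s ^ 2 ^ j = 1 from congrArg Subtype.val hj]
    simp
  obtain ⟨a, ha, hca, hcc⟩ : ∃ a ∈ A, g a ≠ 1 ∧ g (g a) = 1 := by
    have hex : ∃ n, g^[n] a₀ = 1 := ⟨_, hfin⟩
    have h0 : Nat.find hex ≠ 0 := fun e => hne (by
      have h' := Nat.find_spec hex
      rw [e] at h'
      simp only [Function.iterate_zero, id] at h'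
      rw [h', mul_one, one_mul])
    have h1 : Nat.find hex ≠ 1 := fun e => hne (by
      have h' := Nat.find_spec hex
      rw [e] at h'
      simp only [Function.iterate_one, g] at h'
      exact mul_inv_eq_iff_eq_mul.mp (mul_inv_eq_one.mp h'))
    have hmem : ∀ n, g^[n] a₀ ∈ A := fun n => by
      induction n with
      | zero => exact ha₀
      | succ n ih => rw [Function.iterate_succ_apply']; exact hgA _ ih
    refine ⟨g^[Nat.find hex - 2] a₀, hmem _, ?_, ?_⟩
    · rw [← Function.iterate_succ_apply' g]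
      exact Nat.find_min hex (by omega)
    · rw [← Function.iterate_succ_apply' g, ← Function.iterate_succ_apply' g,
        show (Nat.find hex - 2).succ.succ = Nat.find hex by omega]
      exact Nat.find_spec hex
  set c := g a with hc
  have hcA : c ∈ A := hgA a ha
  have hsc : s ∈ cc c := AfterFT.CoreSep.mem_cc.mpr (mul_inv_eq_iff_eq_mul.mp (mul_inv_eq_one.mp hcc))
  obtain ⟨E, hE, hb⟩ := H.block c hcA hca
  obtain ⟨V, k, hk, -, hV⟩ := H.hyp.exists_block' hA hcA hca hE (ne_A H hb)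
  obtain ⟨T, hT⟩ := hA.imA_closed hcA
  set sb := ff c ⟨s, hsc⟩ with hsb
  -- `s` normalises the component
  have hsE : sb ∈ Subgroup.normalizer (E : Set (qq c)) := by
    refine CfsgLib.S3Simple.mem_normalizer_of_map_eq
      (H.eq_of_moved hcA hca hE hb (isComponent_map_equiv (MulAut.conj sb) hE) fun hle => ?_)
    refine not_le_centralizer hA hcA (ne_A H hb) fun y hy => ?_
    obtain ⟨⟨x, hxc⟩, hx, rfl⟩ := hy
    have hsx : s * x * s⁻¹ ∈ A := hsN x hx
    intro e he
    have h1 := hle (mem_imA hsx (hA.mem_cc hcA hsx)) (sb * e * sb⁻¹) ⟨e, he, rfl⟩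
    have h2 : ff c ⟨s * x * s⁻¹, hA.mem_cc hcA hsx⟩ = sb * ff c ⟨x, hxc⟩ * sb⁻¹ := by
      rw [hsb, ← map_inv, ← map_mul, ← map_mul]
      rfl
    rw [h2] at h1
    have e1 : sb * e * sb⁻¹ * (sb * ff c ⟨x, hxc⟩ * sb⁻¹) = sb * (e * ff c ⟨x, hxc⟩) * sb⁻¹ := by group
    have e2 : sb * ff c ⟨x, hxc⟩ * sb⁻¹ * (sb * e * sb⁻¹) = sb * (ff c ⟨x, hxc⟩ * e) * sb⁻¹ := by group
    rw [e1, e2] at h1
    exact mul_left_cancel (mul_right_cancel h1)
  obtain ⟨d, hd, v, hv, hdv⟩ := CfsgLib.Signalizer.mem_sup_of_ea hA.elem hk.D_le hk.V_le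
    (show a ∈ blockD A c E ⊔ V from hk.sup.symm ▸ ha)
  have hvc := hA.mem_cc hcA (hk.V_le hv)
  have hsd : s * d * s⁻¹ = d := by
    obtain ⟨i, rfl⟩ := mem_zpowers_iff.mp (hb ▸ hd)
    exact mul_inv_eq_iff_eq_mul.mpr ((show Commute s c from AfterFT.CoreSep.mem_cc.mp hsc).zpow_right i).eq
  have hcv : c = s * v * s⁻¹ * v⁻¹ := by
    have hdA := hk.D_le hd
    have hvA := hk.V_le hv
    calc c = s * a * s⁻¹ * a⁻¹ := hc
      _ = (s * d * s⁻¹) * (s * v * s⁻¹ * v⁻¹) * d⁻¹ := by rw [hdv]; group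
      _ = d * ((s * v * s⁻¹ * v⁻¹) * d⁻¹) := by rw [hsd, mul_assoc]
      _ = _ := by rw [hA.comm (mul_mem (hsN v hvA) (inv_mem hvA)) (inv_mem hdA), mul_inv_cancel_left]
  have hcc' : c ∈ cc c := hA.mem_cc hcA hcA
  have hm : ff c ⟨c, hcc'⟩ ∈ E := by
    have h1 : (⟨c, hcc'⟩ : ↥(cc c)) = ⟨s, hsc⟩ * ⟨v, hvc⟩ * ⟨s, hsc⟩⁻¹ * ⟨v, hvc⟩⁻¹ := Subtype.ext hcv
    rw [h1, map_mul, map_mul, map_mul, map_inv, map_inv]
    exact mul_mem ((mem_normalizer_iff.mp hsE _).mp (hV v hv hvc)) (inv_mem (hV v hv hvc))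
  refine hca (hA.ff_inj hcA hcc' (H.eq_one_of_mem hcA hca hE hb hm ?_))
  exact ((mem_blockD hcc').mp (self_mem_blockD hcA E)).2

/-- The elements of `A` are points. -/
theorem Std.pt (H : Std S A) {a : G} (ha : a ∈ A) (ha1 : a ≠ 1) : Pt S a :=
  ⟨H.closed.sq ha, ha1, fun s hs => AfterFT.CoreSep.mem_cc.mpr (H.central s hs a ha)⟩

end CfsgLib.GoldSC.Seven
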